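import Cfsg.Agent.H921.M22.Rep3
import Cfsg.Agent.H915.LD
import Cfsg.Agent.S2036

/-!
# Cores with socle `M22` in characteristic two, degree at most 12
-/

set_option autoImplicit false
set_option linter.unusedSectionVars false

namespace Cfsg.Agent.H921.M22

open Cfsg Cfsg.Geo Matrix H915.LD Module
open Cfsg.Agent.H921.M22.Fix (Dat fx)
open Cfsg.Agent.H921.M22.Rp (tc Hyp)
open Cfsg.Agent.H911.Five (rep rep_irr trace_rep rep_injective)

universe u

variable {ι : Type} [Fintype ι] [DecidableEq ι] {F : Type u} [Field F] [Finite F] {P : Subgroup (GL ι F)}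
  (e : Soc P ≃* Spor.M22) (hC : Core P)

/-- the projection of the core -/
abbrev ph (e : Soc P ≃* Spor.M22) : P →* Spor.M22 := e.toMonoidHom.comp (toSoc P)

theorem ph_surj : Function.Surjective (ph e) := e.surjective.comp (toSoc_surjective P)

theorem ph_cen : (ph e).ker ≤ Subgroup.center P := by
  rw [ker_comp e]
  exact H915.LD.scalars_le_center (P := P)

theorem ph_scalar {z : P} (hz : z ∈ (ph e).ker) : ∃ c : F, ((z : GL ι F) : Matrix ι ι F) = c • 1 := by
  rw [ker_comp e, Subgroup.mem_subgroupOf, mem_scalars_iff] at hz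
  obtain ⟨c, hc⟩ := hz
  exact ⟨c, hc⟩

include hC in
theorem dat : Dat (rep P) (ph e) where
  surj := ph_surj e
  scal := by
    intro x hx
    obtain ⟨c, hc⟩ := ph_scalar e hx
    refine ⟨algebraMap F _ c, ?_⟩
    apply LinearMap.ext
    intro v
    rw [H911.Five.rep_apply, hc, LinearMap.smul_apply, Module.End.one_apply]
    have h1 : (c • (1 : Matrix ι ι F)).map (algebraMap F (AlgebraicClosure F)) =
        algebraMap F (AlgebraicClosure F) c • (1 : Matrix ι ι (AlgebraicClosure F)) := by
      ext i j
      by_cases hij : i = j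
      · subst hij; simp
      · simp [hij]
    rw [h1, Matrix.smul_mulVec, Matrix.one_mulVec]
  irr := fun U hU => rep_irr hC.absIrred U (fun g v hv => hU g v hv)
  two := by
    rw [Module.finrank_fintype_fun_eq_card]
    exact hC.two_le

theorem finrank_eq : finrank (AlgebraicClosure F) (ι → AlgebraicClosure F) = Fintype.card ι :=
  Module.finrank_fintype_fun_eq_card _

variable [CharP F 2]

include hC in
theorem card_ker : Nat.card (ph e).ker = 1 ∨ Nat.card (ph e).ker = 3 := by
  have h1 := hC.card_scalars_dvd e S2036.result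
  rw [← ker_comp e] at h1
  have h2 : Nat.card (Multiplicative (ZMod 12)) = 12 := Nat.card_zmod 12
  rw [h2] at h1
  have hfin : Finite P := inferInstance
  have h3 : ¬ 2 ∣ Nat.card (ph e).ker := by
    intro hd
    obtain ⟨z, hz⟩ := exists_prime_orderOf_dvd_card' (G := (ph e).ker) 2 hd
    have hz2 : (z : P) ^ 2 = 1 := by
      have : z ^ 2 = 1 := by rw [← hz, pow_orderOf_eq_one]
      exact congrArg Subtype.val this
    obtain ⟨c, hc⟩ := ph_scalar e z.2
    have hne := hC.nonempty
    obtain ⟨i⟩ := hne
    have h4 : (((z : P) ^ 2 : P) : GL ι F).1 = (c ^ 2) • (1 : Matrix ι ι F) := by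
      rw [Subgroup.coe_pow, Units.val_pow_eq_pow_val, hc, smul_pow, one_pow]
    rw [hz2] at h4
    have h5 : (1 : F) = c ^ 2 := by
      have := congrFun (congrFun h4 i) i
      simpa using this
    have h6 : c = 1 := by
      have h7 : (c - 1) ^ 2 = 0 := by
        have h3 : (2 : F) = 0 := CharTwo.two_eq_zero
        linear_combination -h5 + (1 - c) * h3
      exact sub_eq_zero.1 (pow_eq_zero_iff (two_ne_zero) |>.1 h7)
    have h7 : z = 1 := by
      apply Subtype.ext
      apply Subtype.ext
      apply Units.ext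
      rw [hc, h6, one_smul]
      rfl
    rw [h7, orderOf_one] at hz
    omega
  have h4 : Nat.card (ph e).ker ≤ 12 := Nat.le_of_dvd (by norm_num) h1
  have h5 : 0 < Nat.card (ph e).ker := Nat.card_pos
  exact (by decide : ∀ n ≤ 12, n ∣ 12 → ¬ 2 ∣ n → n = 1 ∨ n = 3) _ h4 h1 h3

instance : CharP (AlgebraicClosure F) 2 :=
  charP_of_injective_algebraMap (algebraMap F (AlgebraicClosure F)).injective 2

theorem tc_rep (g : P) : tc (rep P) g = algebraMap F (AlgebraicClosure F) (tr (g : GL ι F)) := trace_rep P g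

theorem tr_sq (g : GL ι F) : tr (g ^ 2) = tr g ^ 2 := by
  have := tr_pow_char 2 g 1
  rwa [pow_one] at this

include hC in
/-- trivial scalars -/
theorem one (h1 : Nat.card (ph e).ker = 1) (hn : Fintype.card ι ≤ 12) : Fintype.card ι = 10 ∧ Fr P 2 ∧ ¬ SD P := by
  have hinj : Function.Injective (ph e) := by
    rw [← MonoidHom.ker_eq_bot_iff]
    exact (Subgroup.card_eq_one).1 h1
  let e' : P ≃* Spor.M22 := MulEquiv.ofBijective (ph e) ⟨hinj, ph_surj e⟩
  have D := dat e hC
  let ρ : Spor.M22 →* Module.End (AlgebraicClosure F) (ι → AlgebraicClosure F) := (rep P).comp e'.symm.toMonoidHom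
  have hρ : ∀ g : P, ρ (e' g) = rep P g := fun g => by
    change rep P (e'.symm (e' g)) = _
    rw [MulEquiv.symm_apply_apply]
  have hρ' : ∀ x : Spor.M22, ρ x = rep P (e'.symm x) := fun x => rfl
  have D' : Dat ρ (MonoidHom.id Spor.M22) :=
    { surj := fun x => ⟨x, rfl⟩
      scal := by
        intro x hx
        rw [MonoidHom.mem_ker, MonoidHom.id_apply] at hx
        exact ⟨1, by rw [hx, map_one, one_smul]⟩
      irr := by
        intro U hU
        apply D.irr U
        intro g v hv
        rw [← hρ]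
        exact hU _ v hv
      two := D.two }
  have hρi : Function.Injective ρ := by
    intro x y hxy
    rw [hρ', hρ'] at hxy
    exact e'.symm.injective (rep_injective P hxy)
  obtain ⟨h2, h3, h4⟩ := Rp.one D' hρi (by rw [finrank_eq]; exact hn)
  have htc : ∀ g : P, tc ρ (e' g) = algebraMap F (AlgebraicClosure F) (tr (g : GL ι F)) := by
    intro g
    rw [← tc_rep]
    unfold tc
    rw [hρ]
  refine ⟨by rw [← h2, finrank_eq], ?_, ?_⟩
  · apply Fr.of_reg' 2
    intro g hg ho
    rw [← tr_sq]
    apply (algebraMap F (AlgebraicClosure F)).injective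
    have h5 := Rp.one_tc (ρ := ρ) h2 h3 (g := e' ⟨g, hg⟩) (by
      rw [MulEquiv.orderOf_eq]
      rw [← Subgroup.orderOf_coe]
      exact ho)
    rw [← map_pow, htc, htc] at h5
    exact h5
  · intro hsd
    obtain ⟨w, hw, -⟩ := H968.TwoM22.three.seven
    apply Rp.one_seven (ρ := ρ) h2 h4 hw
    obtain ⟨g, rfl⟩ := e'.surjective w
    rw [← map_inv, htc, htc]
    congr 1
    exact hsd _ g.2

include hC in
theorem hyp (h1 : Nat.card (ph e).ker = 3) : Hyp (rep P) (ph e) where
  toDat := dat e hC
  inj := rep_injective P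
  cen := ph_cen e
  perf := hC.commutator_top
  card := h1

include hC in
/-- **Cores with socle `M22` in characteristic two, degree at most 12.** -/
theorem two (hn : Fintype.card ι ≤ 12) :
    (Fintype.card ι = 6 ∧ Cj P 2) ∨ (Fintype.card ι = 10 ∧ Fr P 2 ∧ ¬ SD P) ∨
      (Fintype.card ι = 12 ∧ Nat.card (ph e).ker = 3) := by
  rcases card_ker e hC with h1 | h1
  · exact Or.inr (Or.inl (one e hC h1 hn))
  have H := hyp e hC h1
  have hfin : Finite P := inferInstance
  rcases H.dims (by rw [finrank_eq]; exact hn) with ⟨h2, h3⟩ | ⟨h2, h3⟩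
  · left
    refine ⟨by rw [← h2, finrank_eq], ?_⟩
    apply Cj.of_reg' 2
    intro g hg ho
    rw [← tr_sq]
    apply (algebraMap F (AlgebraicClosure F)).injective
    have h5 := H.tc_sq (fun w hw => by
      rw [h3 w hw, h2]
      have h3 : (2 : AlgebraicClosure F) = 0 := CharTwo.two_eq_zero
      push_cast
      linear_combination -3 * h3) (g := ⟨g, hg⟩) (by
      rw [← Subgroup.orderOf_coe]
      exact ho)
    rw [tc_rep, tc_rep] at h5
    exact h5
  · right; right
    exact ⟨by rw [← h2, finrank_eq], h1⟩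

end Cfsg.Agent.H921.M22
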