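import Cfsg.Agent.H921.M22.Facts2

/-!
# Facts on `M22` for the representations of degree 12 of `3.M22`

* `oct` : `g` an involution, `w` of order 7, `t = u ^ 4` with `u` of order 8, `t w = g w g⁻¹`, `(t w ^ 3) ^ 5 = 1`;
* `frob` : `y z y⁻¹ = z ^ 3`, `y` of order 5, `z` of order 11;
* `cos` : a subgroup `A` of order 16 and cosets `x₁ A`, `x₂ A` with only one element of order 11 (and none of order 7),
  with only two elements of order 7, one conjugate to the inverse of the other (and none of order 11).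
-/

set_option autoImplicit false

namespace Cfsg.Agent.H921.M22.Facts

open Cfsg Subgroup Cfsg.Agent.SporadicA.GolayBase Cfsg.Agent.SporadicA.GolayPerm
open Cfsg.Agent.SporadicStructure.M24El Cfsg.Agent.H921.Spor.M24

def pw : ℕ := 961494259036883443119923220613221856
def pg : ℕ := 966645205281450554401883888952754624
def pgw : ℕ := 984804022521676985203077058917875840
def pu : ℕ := 968982653686399065263856150837089504
def py : ℕ := 978289236970339193415844103832581600
def lA : List ℕ := [984818244535754528103549039458486304, 960722543430447394230161524690420800,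
  973662324848730782428376625876882528, 956977587143969489668592396845373568, 978355088255623058115747202845514912,
  962385502792982227914350947957228736, 963346065302046961557967289450173664, 975568990542510601383932054293655808,
  966550765170162069893706959823519008, 967334252318246576086866439314121088, 983263827791175851852637786768461248,
  971540950908768264271788005757920736, 964819629591404135287417151862217248, 959654943859448158662998138342062688,
  980112844001466431623916045694209696, 958194967281792409511506720763122368]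
def px1 : ℕ := 979660041653991751886391746673878336
def px2 : ℕ := 977857174874904944130453661151829408
def pa1 : ℕ := 958194967281792409511506720763122368
def pb1 : ℕ := 984818244535754528103549039458486304
def pb2 : ℕ := 967334252318246576086866439314121088
def ph : ℕ := 960189975266886221665753472529208736
def pb2i : ℕ := 965187487493719502169096034149533312

theorem okw : okM pw = true := by decide +kernel
theorem okg : okM pg = true := by decide +kernel
theorem okgw : okM pgw = true := by decide +kernel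
theorem oku : okM pu = true := by decide +kernel
theorem oky : okM py = true := by decide +kernel
theorem okx1 : okM px1 = true := by decide +kernel
theorem okx2 : okM px2 = true := by decide +kernel
theorem oka1 : okM pa1 = true := by decide +kernel
theorem okb1 : okM pb1 = true := by decide +kernel
theorem okb2 : okM pb2 = true := by decide +kernel
theorem okh : okM ph = true := by decide +kernel
theorem okb2i : okM pb2i = true := by decide +kernel
theorem oklA : lA.all okM = true := by decide +kernel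

theorem okA' {P : ℕ} (h : P ∈ lA) : okM P = true := List.all_eq_true.1 oklA P h

/-- Involution, element of order 7, element of order 8. -/
structure Oct {T : Type*} [Group T] (g w u : T) : Prop where
  hg : orderOf g = 2
  hw : orderOf w = 7
  hu : orderOf u = 8
  hc : g * (w * g * w⁻¹) = (w * g * w⁻¹) * g
  ht : g * (w * g * w⁻¹) = u ^ 4
  h5 : (u ^ 4 * w ^ 3) ^ 5 = 1

theorem oct : ∃ g w u : Spor.M22, Oct g w u := by
  have hcj : mk pw * mk pg * (mk pw)⁻¹ = mk pgw := mk_conj okw okg okgw (by decide +kernel)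
  refine ⟨mk pg, mk pw, mk pu, ?_, ?_, ?_, ?_, ?_, ?_⟩
  · exact order_mk Nat.prime_two okg (by decide +kernel) (i := 1) (by norm_num) (by decide +kernel)
  · exact order_mk (by norm_num) okw (by decide +kernel) (i := 1) (by norm_num) (by decide +kernel)
  · have : Fact (Nat.Prime 2) := ⟨Nat.prime_two⟩
    have h := orderOf_eq_prime_pow (x := mk pu) (p := 2) (n := 2) (by
      rw [← mk_ppow oku]
      exact mk_ne_one (okM_ppow oku _) (i := 1) (by norm_num) (by decide +kernel)) (by
      rw [← mk_ppow oku, show ppow pu (2 ^ (2 + 1)) = idP by decide +kernel, mk_idP])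
    rw [h]
    norm_num
  · rw [hcj, ← mk_pcomp okg okgw, ← mk_pcomp okgw okg, show pcomp pg pgw = pcomp pgw pg by decide +kernel]
  · rw [hcj, ← mk_pcomp okg okgw, ← mk_ppow oku, show pcomp pg pgw = ppow pu 4 by decide +kernel]
  · rw [← mk_ppow oku, ← mk_ppow okw, ← mk_pcomp (okM_ppow oku 4) (okM_ppow okw 3),
      ← mk_ppow (okM_pcomp (okM_ppow oku 4) (okM_ppow okw 3)),
      show ppow (pcomp (ppow pu 4) (ppow pw 3)) 5 = idP by decide +kernel, mk_idP]

theorem frob : ∃ y z : Spor.M22, orderOf y = 5 ∧ orderOf z = 11 ∧ y * z * y⁻¹ = z ^ 3 := by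
  have oX : okM pX = true := okA (by simp)
  refine ⟨mk py, mk pX, ?_, ?_, ?_⟩
  · exact order_mk (by norm_num) oky (by decide +kernel) (i := 1) (by norm_num) (by decide +kernel)
  · exact order_mk (by norm_num) oX (by decide +kernel) (i := 1) (by norm_num) (by decide +kernel)
  · rw [← mk_ppow oX]
    exact mk_conj oky oX (okM_ppow oX 3) (by decide +kernel)

theorem mk_inj {P Q : ℕ} (hP : okM P = true) (hQ : okM Q = true) (h : mk P = mk Q) : ∀ i < 24, papp P i = papp Q i := by
  intro i hi
  have h1 := congrArg (Subtype.val (p := fun x => x ∈ Spor.M22)) h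
  rw [coe_mk hP, coe_mk hQ] at h1
  have h2 : el P = el Q := Subtype.ext h1
  have h3 := idx_el_smul (okM.ok hP) (pt i)
  have h4 := idx_el_smul (okM.ok hQ) (pt i)
  rw [h2, h4, idx_pt hi] at h3
  exact h3.symm

/-- the subgroup of order 16 -/
noncomputable def sA : Subgroup Spor.M22 where
  carrier := {a | ∃ P ∈ lA, a = mk P}
  one_mem' := ⟨idP, by decide +kernel, mk_idP.symm⟩
  mul_mem' := by
    rintro _ _ ⟨P, hP, rfl⟩ ⟨Q, hQ, rfl⟩
    have h : ∀ P ∈ lA, ∀ Q ∈ lA, pcomp P Q ∈ lA := by decide +kernel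
    exact ⟨_, h P hP Q hQ, (mk_pcomp (okA' hP) (okA' hQ)).symm⟩
  inv_mem' := by
    rintro _ ⟨P, hP, rfl⟩
    have h : ∀ P ∈ lA, ∃ Q ∈ lA, pcomp P Q = idP := by decide +kernel
    obtain ⟨Q, hQ, hPQ⟩ := h P hP
    exact ⟨Q, hQ, (mk_inv (okA' hP) (okA' hQ) hPQ).symm⟩

theorem mem_sA {a : Spor.M22} : a ∈ sA ↔ ∃ P ∈ lA, a = mk P := Iff.rfl

theorem card_sA : Nat.card sA = 16 := by
  have hinj : ∀ i < 16, ∀ j < 16, (∀ k < 24, papp (lA.getD i idP) k = papp (lA.getD j idP) k) → i = j := by
    decide +kernel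
  have hmem : ∀ i < 16, lA.getD i idP ∈ lA := by decide +kernel
  have hsur : ∀ P ∈ lA, ∃ i < 16, P = lA.getD i idP := by decide +kernel
  have hbij : Function.Bijective (fun i : Fin 16 => (⟨mk (lA.getD i idP), _, hmem i i.2, rfl⟩ : sA)) := by
    constructor
    · intro i j hij
      have h1 : mk (lA.getD i idP) = mk (lA.getD j idP) := congrArg Subtype.val hij
      exact Fin.ext (hinj i i.2 j j.2 (mk_inj (okA' (hmem i i.2)) (okA' (hmem j j.2)) h1))
    · rintro ⟨_, P, hP, rfl⟩
      obtain ⟨i, hi, rfl⟩ := hsur P hP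
      exact ⟨⟨i, hi⟩, rfl⟩
  rw [← Nat.card_eq_of_bijective _ hbij]
  simp

/-- A subgroup of order 16 and two cosets. -/
structure Cos {T : Type*} [Group T] (A : Subgroup T) (x₁ a₁ x₂ b₁ b₂ : T) : Prop where
  card : Nat.card A = 16
  ha₁ : a₁ ∈ A
  hb₁ : b₁ ∈ A
  hb₂ : b₂ ∈ A
  ne : b₁ ≠ b₂
  h1 : ∀ a ∈ A, a ≠ a₁ → (x₁ * a) ^ 24 = 1 ∨ (x₁ * a) ^ 5 = 1
  o1 : orderOf (x₁ * a₁) = 11
  h2 : ∀ a ∈ A, a ≠ b₁ → a ≠ b₂ → (x₂ * a) ^ 24 = 1 ∨ (x₂ * a) ^ 5 = 1
  o2 : orderOf (x₂ * b₁) = 7
  c2 : IsConj (x₂ * b₁) (x₂ * b₂)⁻¹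

theorem cos : ∃ (A : Subgroup Spor.M22) (x₁ a₁ x₂ b₁ b₂ : Spor.M22), Cos A x₁ a₁ x₂ b₁ b₂ := by
  refine ⟨sA, mk px1, mk pa1, mk px2, mk pb1, mk pb2, card_sA, ⟨_, by decide +kernel, rfl⟩, ⟨_, by decide +kernel, rfl⟩,
    ⟨_, by decide +kernel, rfl⟩, ?_, ?_, ?_, ?_, ?_, ?_⟩
  · intro h
    have h1 := mk_inj okb1 okb2 h
    have h2 : ¬ ∀ i < 24, papp pb1 i = papp pb2 i := by decide +kernel
    exact h2 h1
  · rintro _ ⟨P, hP, rfl⟩ hne
    have h : ∀ P ∈ lA, P ≠ pa1 → ppow (pcomp px1 P) 24 = idP ∨ ppow (pcomp px1 P) 5 = idP := by decide +kernel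
    have ho := okM_pcomp okx1 (okA' hP)
    rw [← mk_pcomp okx1 (okA' hP), ← mk_ppow ho, ← mk_ppow ho]
    rcases h P hP (fun h => hne (by rw [h])) with h1 | h1
    · left; rw [h1, mk_idP]
    · right; rw [h1, mk_idP]
  · rw [← mk_pcomp okx1 oka1]
    exact order_mk (by norm_num) (okM_pcomp okx1 oka1) (by decide +kernel) (i := 1) (by norm_num) (by decide +kernel)
  · rintro _ ⟨P, hP, rfl⟩ hne hne'
    have h : ∀ P ∈ lA, P ≠ pb1 → P ≠ pb2 → ppow (pcomp px2 P) 24 = idP ∨ ppow (pcomp px2 P) 5 = idP := by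
      decide +kernel
    have ho := okM_pcomp okx2 (okA' hP)
    rw [← mk_pcomp okx2 (okA' hP), ← mk_ppow ho, ← mk_ppow ho]
    rcases h P hP (fun h => hne (by rw [h])) (fun h => hne' (by rw [h])) with h1 | h1
    · left; rw [h1, mk_idP]
    · right; rw [h1, mk_idP]
  · rw [← mk_pcomp okx2 okb1]
    exact order_mk (by norm_num) (okM_pcomp okx2 okb1) (by decide +kernel) (i := 1) (by norm_num) (by decide +kernel)
  · have ho1 := okM_pcomp okx2 okb1
    have ho2 := okM_pcomp okx2 okb2
    rw [← mk_pcomp okx2 okb1, ← mk_pcomp okx2 okb2, ← mk_inv ho2 okb2i (by decide +kernel)]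
    exact isConj_iff.2 ⟨mk ph, mk_conj okh ho1 okb2i (by decide +kernel)⟩

end Cfsg.Agent.H921.M22.Facts
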