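import Cfsg.Agent.H921.M22.Rep

/-!
# Representations of `3.M22` in characteristic two

`Hyp ρ π` : `L = 3.M22`, `ρ` faithful irreducible.

* `Hyp.three` : lifts of elements of order 3 have order 3 and are conjugate to their products with a scalar;
* `Hyp.dims` : degree 6, or 12; the dimensions of the fixed spaces;
* `Hyp.tc` : `tr g² = tr g⁻¹` for `g` of odd order (degree 6).
-/

set_option autoImplicit false
set_option linter.unusedSectionVars false

namespace Cfsg.Agent.H921.M22.Rp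

open Cfsg Module Facts
open Cfsg.Agent.H921.M22.Fix (Dat fx fx_three fx_norm fx_eq_iff)

/-- a faithful irreducible representation of `3.M22` -/
structure Hyp {L K V : Type*} [Group L] [Field K] [AddCommGroup V] [Module K V] (ρ : L →* Module.End K V)
    (π : L →* Spor.M22) : Prop extends Dat ρ π where
  inj : Function.Injective ρ
  cen : π.ker ≤ Subgroup.center L
  perf : commutator L = ⊤
  card : Nat.card π.ker = 3

variable {L K V : Type*} [Group L] [Finite L] [Field K] [IsAlgClosed K] [CharP K 2] [AddCommGroup V] [Module K V]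
  [FiniteDimensional K V] {ρ : L →* Module.End K V} {π : L →* Spor.M22} (H : Hyp ρ π)

include H

theorem Hyp.cube {z : L} (hz : z ∈ π.ker) : z ^ 3 = 1 := by
  have h1 : (⟨z, hz⟩ : π.ker) ^ Nat.card π.ker = 1 := pow_card_eq_one'
  rw [H.card] at h1
  exact congrArg Subtype.val h1

theorem Hyp.comm {z : L} (hz : z ∈ π.ker) (g : L) : g * z = z * g := Subgroup.mem_center_iff.1 (H.cen hz) g

theorem Hyp.smul_inj {c d : K} (h : c • (1 : Module.End K V) = d • 1) : c = d := by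
  have : Nontrivial V := by
    rw [← Module.finrank_pos_iff (R := K)]
    have := H.two
    omega
  obtain ⟨v, hv⟩ := exists_ne (0 : V)
  have h1 := LinearMap.congr_fun h v
  rw [LinearMap.smul_apply, LinearMap.smul_apply, Module.End.one_apply] at h1
  exact smul_left_injective K hv h1

theorem Hyp.scal' {z : L} (hz : z ∈ π.ker) : ∃ c : K, ρ z = c • 1 ∧ c ^ 3 = 1 := by
  obtain ⟨c, hc⟩ := H.scal z hz
  refine ⟨c, hc, H.smul_inj ?_⟩
  have h1 := congrArg ρ (H.cube hz)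
  rw [map_pow, hc, smul_pow, one_pow, map_one] at h1
  rw [h1, one_smul]

theorem Hyp.scal2 {z : L} (hz : z ∈ π.ker) (h1 : z ≠ 1) : ∃ c : K, ρ z = c • 1 ∧ c ^ 2 + c + 1 = 0 ∧ c ≠ 1 := by
  obtain ⟨c, hc, h3⟩ := H.scal' hz
  have hne : c ≠ 1 := by
    rintro rfl
    apply h1
    apply H.inj
    rw [hc, one_smul, map_one]
  refine ⟨c, hc, ?_, hne⟩
  have h2 : (c - 1) * (c ^ 2 + c + 1) = 0 := by linear_combination h3
  exact (mul_eq_zero.1 h2).resolve_left (sub_ne_zero.2 hne)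

theorem Hyp.exists_ne_one : ∃ z ∈ π.ker, z ≠ 1 := by
  by_contra hcon
  push Not at hcon
  have h1 : π.ker = ⊥ := by
    rw [eq_bot_iff]
    intro z hz
    exact Subgroup.mem_bot.2 (hcon z hz)
  have h2 := H.card
  rw [h1, Subgroup.card_bot] at h2
  omega

/-- elements with the same image -/
theorem Hyp.exists_mul {g h : L} (hgh : π g = π h) : ∃ z ∈ π.ker, g = z * h :=
  ⟨g * h⁻¹, by rw [MonoidHom.mem_ker, map_mul, map_inv, hgh, mul_inv_cancel], by group⟩

/-- lifts of the two generators of `3 ^ 2` do not commute -/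
theorem Hyp.not_comm {a b q₁ q₂ : Spor.M22} (N : Nine a b q₁ q₂) {A B : L} (hA : π A = a) (hB : π B = b) :
    A * B ≠ B * A := by
  intro hAB
  obtain ⟨E, hE, hE'⟩ := H968.TwoM22.exists_E (by rw [← N.ha, pow_orderOf_eq_one]) (by rw [← N.hb, pow_orderOf_eq_one])
    N.hab N.ne
  obtain ⟨z, hz, hz1⟩ := H.exists_ne_one
  have key : ∀ x ∈ E.comap π, ∃ c ∈ π.ker, ∃ i j : ℕ, x = c * (A ^ i * B ^ j) := by
    intro x hx
    obtain ⟨i, -, j, -, hij⟩ := (hE' _).1 (Subgroup.mem_comap.1 hx)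
    obtain ⟨c, hc, hcx⟩ := H.exists_mul (g := x) (h := A ^ i * B ^ j) (by
      rw [hij, map_mul, map_pow, map_pow, hA, hB])
    exact ⟨c, hc, i, j, hcx⟩
  have h1 := H906.T14.pow_index_eq_one H.perf (E.comap π) (by
    intro x hx y hy
    obtain ⟨c, hc, i, j, rfl⟩ := key x hx
    obtain ⟨d, hd, k, l, rfl⟩ := key y hy
    have hAB' : Commute A B := hAB
    have h2 : Commute (A ^ i * B ^ j) (A ^ k * B ^ l) := by
      apply Commute.mul_left
      · exact ((Commute.refl A).pow_pow i k).mul_right (hAB'.pow_pow i l)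
      · exact ((hAB'.symm).pow_pow j k).mul_right ((Commute.refl B).pow_pow j l)
    have hc' : ∀ g, Commute g c := fun g => H.comm hc g
    have hd' : ∀ g, Commute g d := fun g => H.comm hd g
    exact ((hd' _).mul_right (((hc' _).symm.mul_left h2))).eq) (H.cen hz)
  have h2 : (E.comap π).index = 49280 := by
    rw [Subgroup.index_comap_of_surjective _ H.surj]
    have h3 := E.card_mul_index
    rw [hE, card_M22] at h3
    omega
  rw [h2] at h1
  have h3 := H.cube hz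
  apply hz1
  have h4 : z ^ 49280 = z ^ 2 := by
    rw [show 49280 = 3 * 16426 + 2 by norm_num, pow_add, pow_mul, h3, one_pow, one_mul]
  rw [h4] at h1
  rw [pow_succ, h1, one_mul] at h3
  exact h3

/-- **Lifts of elements of order 3.** -/
theorem Hyp.three {x : L} (hx : orderOf (π x) = 3) : x ^ 3 = 1 ∧ ∃ b : L, ∃ ζ ∈ π.ker, ζ ≠ 1 ∧ b * x * b⁻¹ = ζ * x := by
  obtain ⟨a, b, q₁, q₂, N⟩ := nine
  obtain ⟨A, hA⟩ := H.surj a
  obtain ⟨B, hB⟩ := H.surj b
  obtain ⟨Q, hQ⟩ := H.surj q₁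
  have hne := H.not_comm N hA hB
  have hζ : B * A * B⁻¹ * A⁻¹ ∈ π.ker := by
    rw [MonoidHom.mem_ker, map_mul, map_mul, map_mul, map_inv, map_inv, hA, hB, ← N.hab]
    group
  have hζ1 : B * A * B⁻¹ * A⁻¹ ≠ 1 := by
    intro h
    apply hne
    have h2 : B * A = A * B := by
      calc B * A = (B * A * B⁻¹ * A⁻¹) * (A * B) := by group
        _ = A * B := by rw [h, one_mul]
    exact h2.symm
  have hBA : B * A * B⁻¹ = (B * A * B⁻¹ * A⁻¹) * A := by group
  have hA3 : A ^ 3 = 1 := by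
    have h1 : A ^ 3 ∈ π.ker := by rw [MonoidHom.mem_ker, map_pow, hA, ← N.ha, pow_orderOf_eq_one]
    have ha3 : a ^ 3 = 1 := by rw [← N.ha, pow_orderOf_eq_one]
    have h2 : Q * (Q * A * Q⁻¹) * Q⁻¹ * A ∈ π.ker := by
      rw [MonoidHom.mem_ker]
      simp only [map_mul, map_inv, hA, hQ]
      rw [N.h1, N.h2, ← pow_succ, ha3]
    set c := Q * (Q * A * Q⁻¹) * Q⁻¹ * A with hc
    have h3 : Q * (Q * A * Q⁻¹) * Q⁻¹ = c * A⁻¹ := by rw [hc]; group
    have h4 : (Q * (Q * A * Q⁻¹) * Q⁻¹) ^ 3 = A ^ 3 := by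
      rw [conj_pow, conj_pow, H.comm h1 Q, mul_inv_cancel_right, H.comm h1 Q, mul_inv_cancel_right]
    have h5 : (c * A⁻¹) ^ 3 = (A ^ 3)⁻¹ := by
      have h6 : Commute c A⁻¹ := (H.comm h2 A⁻¹).symm
      rw [h6.mul_pow, H.cube h2, one_mul, inv_pow]
    rw [h3, h5] at h4
    have h6 := H.cube h1
    have h7 : A ^ 3 * A ^ 3 = 1 := by
      have : A ^ 3 * (A ^ 3)⁻¹ = 1 := mul_inv_cancel _
      rwa [h4] at this
    rw [pow_succ (A ^ 3) 2, pow_two, h7, one_mul] at h6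
    exact h6
  obtain ⟨g, hg⟩ := isConj_iff.1 (Facts.three hx N.ha)
  obtain ⟨G, hG⟩ := H.surj g
  obtain ⟨c, hc, hcx⟩ := H.exists_mul (g := G * x * G⁻¹) (h := A) (by
    rw [map_mul, map_mul, map_inv, hG, hg, hA])
  set ζ := B * A * B⁻¹ * A⁻¹ with hζdef
  have hx' : x = G⁻¹ * (c * A) * G := by rw [← hcx]; group
  have hcA : (c * A) ^ 3 = 1 := by
    have h6 : Commute c A := (H.comm hc A).symm
    rw [h6.mul_pow, H.cube hc, hA3, one_mul]
  refine ⟨?_, G⁻¹ * B * G, ζ, hζ, hζ1, ?_⟩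
  · have h1 : (G * x * G⁻¹) ^ 3 = 1 := by rw [hcx, hcA]
    rw [conj_pow] at h1
    have h2 := mul_inv_eq_one.1 h1
    exact mul_eq_left.1 h2
  · rw [hx']
    have e1 : B * (c * A) * B⁻¹ = ζ * (c * A) := by
      calc B * (c * A) * B⁻¹ = (B * c) * A * B⁻¹ := by group
        _ = (c * B) * A * B⁻¹ := by rw [H.comm hc B]
        _ = c * (B * A * B⁻¹) := by group
        _ = c * (ζ * A) := by rw [hBA]
        _ = (c * ζ) * A := by group
        _ = (ζ * c) * A := by rw [H.comm hζ c]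
        _ = ζ * (c * A) := by group
    calc G⁻¹ * B * G * (G⁻¹ * (c * A) * G) * (G⁻¹ * B * G)⁻¹ = G⁻¹ * (B * (c * A) * B⁻¹) * G := by group
      _ = G⁻¹ * (ζ * (c * A)) * G := by rw [e1]
      _ = (G⁻¹ * ζ) * (c * A) * G := by group
      _ = (ζ * G⁻¹) * (c * A) * G := by rw [H.comm hζ G⁻¹]
      _ = ζ * (G⁻¹ * (c * A) * G) := by group

theorem Hyp.fx_three {x : L} (hx : orderOf (π x) = 3) : finrank K V = 3 * fx ρ x := by
  obtain ⟨h1, b, ζ, hζ, hζ1, hb⟩ := H.three hx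
  obtain ⟨c, hc, hc2, -⟩ := H.scal2 hζ hζ1
  exact Fix.fx_three h1 hc2 (by
    have := odd_ne (K := K) (r := 3) (by norm_num)
    exact_mod_cast this) hc hb

theorem Hyp.tc_three {x : L} (hx : orderOf (π x) = 3) : tc ρ x = 0 := by
  obtain ⟨h1, b, ζ, hζ, hζ1, hb⟩ := H.three hx
  obtain ⟨c, hc, -, hne⟩ := H.scal2 hζ hζ1
  have h2 := tc_conj (ρ := ρ) x b
  rw [hb] at h2
  unfold tc at h2 ⊢
  rw [map_mul, hc, smul_mul_assoc, one_mul, map_smul, smul_eq_mul] at h2
  have h3 : (c - 1) * LinearMap.trace K V (ρ x) = 0 := by linear_combination h2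
  exact (mul_eq_zero.1 h3).resolve_left (sub_ne_zero.2 hne)

/-- **Lifts of generating pairs.** -/
theorem Hyp.gen {x y : Spor.M22} {r : ℕ} (hr : r.Prime) (hr3 : r ≠ 3) (hx : orderOf x = 3) (hy : orderOf y = 3)
    (hxy : orderOf (x * y) = r) (hgen : Subgroup.closure ({x, y} : Set Spor.M22) = ⊤) :
    ∃ w : L, orderOf w = r ∧ 3 * fx ρ w ≤ finrank K V := by
  obtain ⟨X, hX⟩ := H.surj x
  obtain ⟨Y, hY⟩ := H.surj y
  obtain ⟨w, hw, hw'⟩ := H908.exists_lift H.surj (x * y) (by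
    rw [H.card, hxy]
    exact (Nat.coprime_primes Nat.prime_three hr).2 (Ne.symm hr3))
  obtain ⟨c, hc, hcw⟩ := H.exists_mul (g := w) (h := X * Y) (by rw [hw, map_mul, hX, hY])
  have hcX : π (c * X) = x := by rw [map_mul, MonoidHom.mem_ker.1 hc, one_mul, hX]
  have s := H.toDat.scott (g := c * X) (h := Y) (by rw [hcX, hY]; exact hgen)
  have e1 := H.fx_three (x := c * X) (by rw [hcX, hx])
  have e2 := H.fx_three (x := Y) (by rw [hY, hy])
  rw [mul_assoc, ← hcw] at s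
  exact ⟨w, hw'.trans hxy, by omega⟩

theorem Hyp.card_L : Nat.card L = 1330560 := by
  have h1 := π.ker.card_mul_index
  rw [Subgroup.index_ker, MonoidHom.range_eq_top.2 H.surj, Subgroup.card_top, H.card, card_M22] at h1
  omega

theorem Hyp.order_map {w : L} {r : ℕ} (hr : r.Prime) (hr3 : r ≠ 3) (hw : orderOf w = r) : orderOf (π w) = r := by
  have : Fact r.Prime := ⟨hr⟩
  apply orderOf_eq_prime
  · rw [← map_pow, ← hw, pow_orderOf_eq_one, map_one]
  · intro h
    have h1 := H.cube (MonoidHom.mem_ker.2 h)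
    have h2 := orderOf_dvd_of_pow_eq_one h1
    rw [hw, Nat.prime_dvd_prime_iff_eq hr Nat.prime_three] at h2
    exact hr3 h2

/-- conjugation relations lift -/
theorem Hyp.conj {w : L} {r k : ℕ} (hr : r.Prime) (hr3 : r ≠ 3) (hw : orderOf w = r) {u : Spor.M22}
    (hu : u * π w * u⁻¹ = (π w) ^ k) : ∃ U : L, U * w * U⁻¹ = w ^ k := by
  obtain ⟨U, hU⟩ := H.surj u
  have hc3 : Nat.Coprime 3 r := (Nat.coprime_primes Nat.prime_three hr).2 (Ne.symm hr3)
  refine ⟨U, H908.conj_lift H.cen ?_ (by rw [H.card, hw]; exact hc3) ?_⟩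
  · rw [map_mul, map_mul, map_inv, hU, hu, map_pow]
  · rw [H.card]
    exact hc3.coprime_dvd_right (by rw [← hw]; exact orderOf_pow_dvd k)

theorem Hyp.eleven {w : L} (hw : orderOf w = 11) : ∃ U : L, U * w * U⁻¹ = w ^ 3 := by
  obtain ⟨u, hu⟩ := Facts.eleven (H.order_map (by norm_num) (by norm_num) hw)
  exact H.conj (by norm_num) (by norm_num) hw hu

theorem Hyp.seven {w : L} (hw : orderOf w = 7) : ∃ U : L, U * w * U⁻¹ = w ^ 2 := by
  obtain ⟨u, hu⟩ := Facts.seven (H.order_map (by norm_num) (by norm_num) hw)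
  exact H.conj (by norm_num) (by norm_num) hw hu

theorem Hyp.five {w : L} (hw : orderOf w = 5) : ∃ U : L, U * w * U⁻¹ = w ^ 2 := by
  obtain ⟨u, hu⟩ := Facts.five (H.order_map (by norm_num) (by norm_num) hw)
  exact H.conj (by norm_num) (by norm_num) hw hu

/-- **The degree.** -/
theorem Hyp.dims (hn : finrank K V ≤ 12) :
    (finrank K V = 6 ∧ ∀ w : L, orderOf w = 7 → fx ρ w = 0) ∨
      (finrank K V = 12 ∧ (∀ w : L, orderOf w = 7 → fx ρ w = 0 ∨ fx ρ w = 3) ∧ ∀ w : L, orderOf w = 11 → fx ρ w = 2) := by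
  obtain ⟨x₁, y₁, e1, e2, e3, e4⟩ := gen_eleven
  obtain ⟨x₂, y₂, e5, e6, e7, e8⟩ := gen_seven
  obtain ⟨w₁, h1, h2⟩ := H.gen (by norm_num) (by norm_num) e1 e2 e3 e4
  obtain ⟨w₂, h3, h4⟩ := H.gen (by norm_num) (by norm_num) e5 e6 e7 e8
  have nt : ∀ {g : L} {r : ℕ}, 1 < r → orderOf g = r → ρ g ≠ 1 := by
    intro g r hr hg h
    have : g = 1 := H.inj (by rw [h, map_one])
    rw [this, orderOf_one] at hg
    omega
  obtain ⟨u, hu⟩ := H.eleven h1
  obtain ⟨m, hm⟩ := fx_norm (ρ := ρ) (by norm_num : Nat.Prime 11) (odd_ne (by norm_num)) (by norm_num : Nat.Prime 5)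
    (by rw [← h1, pow_orderOf_eq_one]) hu (by decide) (s := 6) (by decide)
  have hm' : fx ρ w₁ ≠ finrank K V := fun h => nt (by norm_num) h1 ((fx_eq_iff w₁).1 h)
  obtain ⟨v, hv⟩ := H.seven h3
  obtain ⟨k, hk⟩ := fx_norm (ρ := ρ) (by norm_num : Nat.Prime 7) (odd_ne (by norm_num)) (by norm_num : Nat.Prime 3)
    (by rw [← h3, pow_orderOf_eq_one]) hv (by decide) (s := 1) (by decide)
  have hk' : fx ρ w₂ ≠ finrank K V := fun h => nt (by norm_num) h3 ((fx_eq_iff w₂).1 h)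
  obtain ⟨X, hX⟩ := H.surj x₁
  have h5 := H.fx_three (x := X) (by rw [hX, e1])
  have f11 : ∀ w : L, orderOf w = 11 → fx ρ w = fx ρ w₁ := fun w hw =>
    fx_prime (by norm_num) (by rw [H.card_L]; norm_num) hw h1
  have f7 : ∀ w : L, orderOf w = 7 → fx ρ w = fx ρ w₂ := fun w hw =>
    fx_prime (by norm_num) (by rw [H.card_L]; norm_num) hw h3
  have hn2 : finrank K V = 6 ∨ finrank K V = 12 := by omega
  rcases hn2 with h | h
  · left
    refine ⟨h, fun w hw => ?_⟩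
    rw [f7 w hw]
    omega
  · right
    refine ⟨h, fun w hw => ?_, fun w hw => ?_⟩
    · rw [f7 w hw]
      omega
    · rw [f11 w hw]
      omega

/-- **The traces.** -/
theorem Hyp.tc_sq (h7 : ∀ w : L, orderOf w = 7 → (fx ρ w : K) = (finrank K V : K)) {g : L} (hg : ¬ 2 ∣ orderOf g) :
    tc ρ (g ^ 2) = tc ρ g⁻¹ := by
  have hodd := odd (g := π g) (fun h => hg (h.trans (orderOf_map_dvd π g)))
  -- the case of an element prime to 3
  have main : ∀ r : ℕ, r.Prime → r ≠ 3 → orderOf (π g) = r →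
      (∀ w : L, orderOf w = r → tc ρ (w ^ 2) = tc ρ w⁻¹) → tc ρ (g ^ 2) = tc ρ g⁻¹ := by
    intro r hr hr3 ho hw
    obtain ⟨w, hw1, hw2⟩ := H908.exists_lift H.surj (π g) (by
      rw [H.card, ho]
      exact (Nat.coprime_primes Nat.prime_three hr).2 (Ne.symm hr3))
    obtain ⟨c, hc, hcw⟩ := H.exists_mul (g := g) (h := w) hw1.symm
    obtain ⟨d, hd, hd3⟩ := H.scal' hc
    have hd' : ρ c⁻¹ = (d ^ 2) • 1 := by
      have h1 : c⁻¹ = c ^ 2 := by
        rw [inv_eq_iff_mul_eq_one, ← pow_succ', H.cube hc]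
      rw [h1, map_pow, hd, smul_pow, one_pow]
    have h1 : g ^ 2 = c ^ 2 * w ^ 2 := by
      have : Commute c w := (H.comm hc w).symm
      rw [hcw, this.mul_pow]
    have h2 : g⁻¹ = c⁻¹ * w⁻¹ := by
      rw [hcw, mul_inv_rev]
      exact H.comm (inv_mem hc) w⁻¹
    have h3 := hw w (hw2.trans ho)
    have h4 : ρ (g ^ 2) = (d ^ 2) • ρ (w ^ 2) := by
      rw [h1, map_mul, map_pow ρ c, hd, smul_pow, one_pow, smul_mul_assoc, one_mul]
    have h5 : ρ g⁻¹ = (d ^ 2) • ρ w⁻¹ := by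
      rw [h2, map_mul, hd', smul_mul_assoc, one_mul]
    unfold tc at h3 ⊢
    rw [h4, h5, map_smul, map_smul, h3]
  rcases hodd with h | h | h | h | h
  · rw [orderOf_eq_one_iff] at h
    have h1 : g ^ 2 = g⁻¹ := by
      rw [eq_inv_iff_mul_eq_one, ← pow_succ, H.cube (MonoidHom.mem_ker.2 h)]
    rw [h1]
  · rw [H.tc_three, H.tc_three]
    · rw [map_inv, orderOf_inv, h]
    · rw [map_pow]
      have : Fact (Nat.Prime 3) := ⟨Nat.prime_three⟩
      apply orderOf_eq_prime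
      · rw [← pow_mul, mul_comm, pow_mul, ← h, pow_orderOf_eq_one, one_pow]
      · intro h1
        have := orderOf_dvd_of_pow_eq_one h1
        rw [h] at this
        omega
  · refine main 5 (by norm_num) (by norm_num) h fun w hw => ?_
    obtain ⟨U, hU⟩ := H.five hw
    have h1 := tc_cyc (ρ := ρ) hU 2
    have h2 : w ^ (2 * 2) = w⁻¹ := by
      rw [eq_inv_iff_mul_eq_one, ← pow_succ]
      change w ^ 5 = 1
      rw [← hw, pow_orderOf_eq_one]
    rw [← h2, h1]
  · refine main 7 (by norm_num) (by norm_num) h fun w hw => ?_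
    obtain ⟨U, hU⟩ := H.seven hw
    have h1 := tc_cyc (ρ := ρ) hU 1
    rw [mul_one, pow_one] at h1
    have h2 := sum_seven (ρ := ρ) (odd_ne (by norm_num)) (by rw [← hw, pow_orderOf_eq_one]) hU
    rw [h7 w hw] at h2
    have h3 : (2 : K) = 0 := CharTwo.two_eq_zero
    rw [h1]
    linear_combination h2 - (tc ρ w + 2 * tc ρ w⁻¹ - 3 * (finrank K V : K)) * h3
  · refine main 11 (by norm_num) (by norm_num) h fun w hw => ?_
    obtain ⟨U, hU⟩ := H.eleven hw
    have hw11 : w ^ 11 = 1 := by rw [← hw, pow_orderOf_eq_one]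
    have a1 := tc_cyc (ρ := ρ) hU 2
    have a2 := tc_cyc (ρ := ρ) hU 6
    have a3 := tc_cyc (ρ := ρ) hU 7
    have e1 : w ^ (3 * 6) = w ^ 7 := Fix.pow_mod hw11 (by decide)
    have e2 : w ^ (3 * 7) = w⁻¹ := by
      rw [show w ^ (3 * 7) = w ^ 10 from Fix.pow_mod hw11 (by decide), eq_inv_iff_mul_eq_one, ← pow_succ, hw11]
    rw [e1] at a2
    rw [e2] at a3
    rw [a3, a2, ← a1]

end Cfsg.Agent.H921.M22.Rp
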