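import Cfsg.Agent.H921.M22.Vanish
import Cfsg.Agent.H921.M22.Rep3
import Cfsg.Agent.H921.M22.Facts3

/-!
# `3.M22` has no irreducible representation of degree 12 in characteristic two

All traces would be zero: the elements of order 5 by the Frobenius group `11 : 5`, the elements of order 11 because the
norm element of a subgroup of order 16 is zero, the elements of order 7 by Scott's lemma, because involutions fix at
least 8 dimensions (they are fourth powers of elements of order 8).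
-/

set_option autoImplicit false
set_option linter.unusedSectionVars false

namespace Cfsg.Agent.H921.M22.Rp

open Cfsg Module Facts
open Cfsg.Agent.H921.M22.Fix (Dat fx mem_ker rho_inv rho_inv')

/-- Subgroups of order prime to the kernel lift. -/
theorem exists_section {L N : Type*} [Group L] [Finite L] [Group N] {π : L →* N} (hπ : Function.Surjective π)
    {X : Subgroup N} (hX : Nat.Coprime (Nat.card π.ker) (Nat.card X)) : ∃ σ : X →* L, ∀ x, π (σ x) = x := by
  let f : X.comap π →* X := π.subgroupComap X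
  have hf : Function.Surjective f := by
    rintro ⟨x, hx⟩
    obtain ⟨l, rfl⟩ := hπ x
    exact ⟨⟨l, hx⟩, rfl⟩
  have hk : Nat.card f.ker ∣ Nat.card π.ker := by
    let i : f.ker →* π.ker :=
      { toFun := fun x => ⟨((x : X.comap π) : L), by
          have h1 : f x = 1 := x.2
          exact congrArg Subtype.val h1⟩
        map_one' := rfl
        map_mul' := fun _ _ => rfl }
    apply Subgroup.card_dvd_of_injective i
    intro x y hxy
    apply Subtype.ext
    apply Subtype.ext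
    exact congrArg (fun z : π.ker => (z : L)) hxy
  have hi : f.ker.index = Nat.card X := by
    rw [Subgroup.index_ker, MonoidHom.range_eq_top.2 hf, Subgroup.card_top]
  obtain ⟨C, hC⟩ := Subgroup.exists_right_complement'_of_coprime (N := f.ker) (by
    rw [hi]
    exact Nat.Coprime.coprime_dvd_left hk hX)
  have hbij : Function.Bijective (f.comp C.subtype) := by
    constructor
    · rw [injective_iff_map_eq_one]
      intro x hx
      have h1 : (x : X.comap π) ∈ f.ker ⊓ C := ⟨hx, x.2⟩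
      rw [hC.disjoint.eq_bot, Subgroup.mem_bot] at h1
      exact Subtype.ext h1
    · intro x
      obtain ⟨y, hy⟩ := hf x
      obtain ⟨⟨k, c⟩, hkc⟩ := hC.2 y
      refine ⟨c, ?_⟩
      change f (c : X.comap π) = x
      rw [← hy, ← hkc]
      change f c = f (k * c)
      rw [map_mul, MonoidHom.mem_ker.1 k.2, one_mul]
  let e : C ≃* X := MulEquiv.ofBijective _ hbij
  refine ⟨((X.comap π).subtype.comp C.subtype).comp e.symm.toMonoidHom, fun x => ?_⟩
  have h1 : e (e.symm x) = x := e.apply_symm_apply x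
  exact congrArg Subtype.val h1

/-! ### the trace of an operator of order 5 on a plane -/

section plane

variable {K C : Type*} [Field K] [CharP K 2] [AddCommGroup C] [Module K C]

theorem trace_plane {T : Module.End K C} (hC : finrank K C = 2) (hT : T ^ 5 = 1) : LinearMap.trace K C T ≠ 1 := by
  have : FiniteDimensional K C := Module.finite_of_finrank_pos (by omega)
  let b := Module.finBasisOfFinrankEq K C hC
  set M : Matrix (Fin 2) (Fin 2) K := LinearMap.toMatrix b b T with hM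
  have h5 : M ^ 5 = 1 := by
    rw [hM, LinearMap.toMatrix_pow, hT, LinearMap.toMatrix_one]
  rw [LinearMap.trace_eq_matrix_trace K b, ← hM, Matrix.trace_fin_two]
  intro h1
  have h2 : (2 : K) = 0 := CharTwo.two_eq_zero
  set p := M 0 0
  set q := M 0 1
  set r := M 1 0
  set s := M 1 1
  have hMM : M * M = M - (p * s - q * r) • (1 : Matrix (Fin 2) (Fin 2) K) := by
    ext i j
    fin_cases i <;> fin_cases j
    · simp [Matrix.mul_apply, Fin.sum_univ_two]
      change p * p + q * r = p - (p * s - q * r)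
      linear_combination p * h1
    · simp [Matrix.mul_apply, Fin.sum_univ_two]
      change p * q + q * s = q
      linear_combination q * h1
    · simp [Matrix.mul_apply, Fin.sum_univ_two]
      change r * p + s * r = r
      linear_combination r * h1
    · simp [Matrix.mul_apply, Fin.sum_univ_two]
      change r * q + s * s = s - (p * s - q * r)
      linear_combination s * h1
  set d := p * s - q * r with hd
  have h6 : M ^ 5 = (1 - 3 * d + d ^ 2) • M - (d - 2 * d ^ 2) • (1 : Matrix (Fin 2) (Fin 2) K) := by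
    have e3 : M ^ 3 = (1 - d) • M - d • (1 : Matrix (Fin 2) (Fin 2) K) := by
      rw [pow_succ, pow_two, hMM, sub_mul, hMM, smul_mul_assoc, one_mul]
      module
    have e5 : M ^ 5 = M ^ 3 * (M * M) := by rw [← pow_two, ← pow_add]
    rw [e5, e3, hMM]
    simp only [sub_mul, mul_sub, smul_mul_assoc, mul_smul_comm, one_mul, mul_one, hMM, smul_sub, smul_smul]
    module
  rw [h5] at h6
  have c01 := congrFun (congrFun h6 0) 1
  have c10 := congrFun (congrFun h6 1) 0
  have c00 := congrFun (congrFun h6 0) 0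
  have c11 := congrFun (congrFun h6 1) 1
  simp only [Matrix.sub_apply, Matrix.smul_apply, Matrix.one_apply, smul_eq_mul] at c01 c10 c00 c11
  change (0 : K) = (1 - 3 * d + d ^ 2) * q - (d - 2 * d ^ 2) * 0 at c01
  change (0 : K) = (1 - 3 * d + d ^ 2) * r - (d - 2 * d ^ 2) * 0 at c10
  change (1 : K) = (1 - 3 * d + d ^ 2) * p - (d - 2 * d ^ 2) * 1 at c00
  change (1 : K) = (1 - 3 * d + d ^ 2) * s - (d - 2 * d ^ 2) * 1 at c11
  by_cases hk : 1 - 3 * d + d ^ 2 = 0
  · rw [hk] at c00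
    have h7 : (1 : K) = 0 := by
      have hd1 : d = -1 + 2 * d ^ 2 := by linear_combination c00
      have hd2 : d = 1 := by linear_combination hd1 + (d ^ 2 - 1) * h2
      rw [hd2] at hk
      linear_combination -hk
    exact one_ne_zero h7
  · have h7 : p = s := by
      have h8 : (1 - 3 * d + d ^ 2) * (p - s) = 0 := by linear_combination c11 - c00
      exact sub_eq_zero.1 ((mul_eq_zero.1 h8).resolve_left hk)
    rw [h7] at h1
    have h8 : (1 : K) = 0 := by linear_combination s * h2 - h1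
    exact one_ne_zero h8

end plane

section main

variable {L K V : Type*} [Group L] [Finite L] [Field K] [IsAlgClosed K] [CharP K 2] [AddCommGroup V] [Module K V]
  [FiniteDimensional K V] {ρ : L →* Module.End K V} {π : L →* Spor.M22}

theorem tc_two_pow (hfr : ∀ g, tc ρ (g ^ 2) = tc ρ g ^ 2) (g : L) (k : ℕ) : tc ρ (g ^ 2 ^ k) = tc ρ g ^ 2 ^ k := by
  induction k with
  | zero => rw [pow_zero, pow_one, pow_one]
  | succ k ih => rw [pow_succ, pow_mul, hfr, ih, ← pow_mul]

/-- all elements of order `r` -/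
theorem tc_all {r : ℕ} (hr : r.Prime) (hT : ¬ r ^ 2 ∣ Nat.card L) {z z' : L} (hz : orderOf z = r)
    (hz' : orderOf z' = r) {c : K} (h : ∀ j < r, j ≠ 0 → tc ρ (z ^ j) = c) : tc ρ z' = c := by
  obtain ⟨g, hg⟩ := exists_conj hr hT hz' hz
  obtain ⟨i, hi⟩ := Subgroup.mem_zpowers_iff.1 hg
  have hr0 : (r : ℤ) ≠ 0 := by exact_mod_cast hr.ne_zero
  have h1 : ((i % (r : ℤ)).toNat : ℤ) = i % (r : ℤ) := Int.toNat_of_nonneg (Int.emod_nonneg _ hr0)
  have hzr : z ^ r = 1 := by rw [← hz, pow_orderOf_eq_one]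
  have h2 : z ^ (i % (r : ℤ)).toNat = g * z' * g⁻¹ := by
    rw [← hi, ← zpow_natCast, h1]
    conv_rhs => rw [← Int.emod_add_mul_ediv i r, zpow_add, zpow_mul, zpow_natCast, hzr, one_zpow, mul_one]
  have h3 := h (i % (r : ℤ)).toNat (by
    have : ((i % (r : ℤ)).toNat : ℤ) < r := by rw [h1]; exact Int.emod_lt_of_pos _ (by exact_mod_cast hr.pos)
    exact_mod_cast this) (by
    intro h0
    rw [h0, pow_zero] at h2
    have h4 : orderOf (g * z' * g⁻¹) = 1 := by rw [← h2, orderOf_one]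
    rw [orderOf_conj, hz'] at h4
    exact hr.one_lt.ne' h4)
  rw [h2, tc_conj] at h3
  exact h3

variable (H : Hyp ρ π)

include H

theorem Hyp.tc_smul {c : L} (hc : c ∈ π.ker) : ∃ d : K, d ≠ 0 ∧ ∀ g, tc ρ (c * g) = d * tc ρ g := by
  obtain ⟨d, hd, hd3⟩ := H.scal' hc
  refine ⟨d, ?_, fun g => ?_⟩
  · rintro rfl
    norm_num at hd3
  · unfold tc
    rw [map_mul, hd, smul_mul_assoc, one_mul, map_smul, smul_eq_mul]

variable (hn : finrank K V = 12) (hfr : ∀ g, tc ρ (g ^ 2) = tc ρ g ^ 2)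

include hn

theorem cast_zero : (finrank K V : K) = 0 := by
  rw [hn]
  have h2 : (2 : K) = 0 := CharTwo.two_eq_zero
  push_cast
  linear_combination 6 * h2

theorem Hyp.tc_ker {g : L} (hg : g ∈ π.ker) : tc ρ g = 0 := by
  obtain ⟨d, -, hd⟩ := H.tc_smul hg
  have h1 := hd 1
  rw [mul_one, tc_one, cast_zero H hn, mul_zero] at h1
  exact h1

include hfr

theorem Hyp.tc_exp {g : L} (hg : (π g) ^ 24 = 1) : tc ρ g = 0 := by
  have h1 := tc_two_pow hfr g 3
  have h2 : tc ρ (g ^ 2 ^ 3) = 0 := by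
    have h3 : (π (g ^ 2 ^ 3)) ^ 3 = 1 := by
      rw [map_pow, ← pow_mul]
      exact hg
    rcases (Nat.dvd_prime Nat.prime_three).1 (orderOf_dvd_of_pow_eq_one h3) with h4 | h4
    · rw [orderOf_eq_one_iff] at h4
      exact H.tc_ker hn (MonoidHom.mem_ker.2 h4)
    · exact H.tc_three h4
  rw [h2] at h1
  exact (pow_eq_zero_iff (by norm_num)).1 h1.symm

/-! ### elements of order 5 -/

theorem Hyp.tc_five {w : L} (hw : orderOf w = 5) : tc ρ w = 0 := by
  obtain ⟨y₀, z₀, hy₀, hz₀, hyz⟩ := frob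
  obtain ⟨y, hy, hy'⟩ := H908.exists_lift H.surj y₀ (by rw [H.card, hy₀]; norm_num)
  obtain ⟨z, hz, hz'⟩ := H908.exists_lift H.surj z₀ (by rw [H.card, hz₀]; norm_num)
  rw [hy₀] at hy'
  rw [hz₀] at hz'
  have hz11 : z ^ 11 = 1 := by rw [← hz', pow_orderOf_eq_one]
  have hy5 : y ^ 5 = 1 := by rw [← hy', pow_orderOf_eq_one]
  have hrel : y * z * y⁻¹ = z ^ 3 := by
    apply H908.conj_lift H.cen
    · rw [map_mul, map_mul, map_inv, hy, hz, hyz, map_pow, hz]
    · rw [H.card, hz']; norm_num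
    · rw [H.card]
      exact (by norm_num : Nat.Coprime 3 11).coprime_dvd_right (by rw [← hz']; exact orderOf_pow_dvd 3)
  have hc : ∀ k : ℕ, z ^ (4 * k) * y * (z ^ (4 * k))⁻¹ = y * z ^ k := by
    intro k
    have h1 : y * z ^ (5 * k) * y⁻¹ = z ^ (4 * k) := by
      rw [← conj_pow, hrel, ← pow_mul]
      apply Fix.pow_mod hz11
      change (3 * (5 * k)) % 11 = (4 * k) % 11
      omega
    rw [← h1]
    have h2 : z ^ (5 * k) = z ^ k * z ^ (4 * k) := by rw [← pow_add]; congr 1; ring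
    calc y * z ^ (5 * k) * y⁻¹ * y * (y * z ^ (5 * k) * y⁻¹)⁻¹
        = y * z ^ (5 * k) * (y * z ^ (5 * k) * y⁻¹)⁻¹ := by group
      _ = y * z ^ (5 * k) * (z ^ (4 * k))⁻¹ := by rw [h1]
      _ = y * z ^ k := by rw [h2]; group
  -- the projection onto the fixed space of `z`
  have h11 : ((11 : ℕ) : K) ≠ 0 := odd_ne (by norm_num)
  set N : Module.End K V := ∑ k ∈ Finset.range 11, ρ (z ^ k) with hN
  set C : Submodule K V := LinearMap.ker (ρ z - 1) with hCdef
  have hzN : ρ z * N = N := by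
    rw [hN, Finset.mul_sum]
    have h3 : ∀ k, ρ z * ρ (z ^ k) = ρ (z ^ (k + 1)) := fun k => by rw [← map_mul, ← pow_succ']
    rw [Finset.sum_congr rfl (fun k _ => h3 k)]
    have h4 := Finset.sum_range_succ' (fun k => ρ (z ^ k)) 11
    have h5 := Finset.sum_range_succ (fun k => ρ (z ^ k)) 11
    rw [h4, hz11, pow_zero] at h5
    exact add_right_cancel h5
  have hNC : ∀ v, N v ∈ C := fun v => by
    rw [hCdef, mem_ker]
    exact LinearMap.congr_fun hzN v
  have hCN : ∀ v ∈ C, N v = ((11 : ℕ) : K) • v := by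
    intro v hv
    rw [hCdef, mem_ker] at hv
    have key : ∀ i : ℕ, ρ (z ^ i) v = v := by
      intro i
      induction i with
      | zero => rw [pow_zero, map_one, Module.End.one_apply]
      | succ i ih => rw [pow_succ, map_mul, Module.End.mul_apply, hv, ih]
    rw [hN, LinearMap.sum_apply, Finset.sum_congr rfl (fun k _ => key k), Finset.sum_const, Finset.card_range,
      ← Nat.cast_smul_eq_nsmul K]
  have hyC : ∀ v ∈ C, ρ y v ∈ C := by
    intro v hv
    have hv' : ρ z v = v := by rw [hCdef, mem_ker] at hv; exact hv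
    rw [hCdef, mem_ker]
    have h1 : z * y = y * z ^ 4 := by
      have h2 : y * z ^ 4 * y⁻¹ = z := by
        rw [← conj_pow, hrel, ← pow_mul]
        calc z ^ (3 * 4) = z ^ 1 := Fix.pow_mod hz11 (by decide)
          _ = z := pow_one z
      calc z * y = y * z ^ 4 * y⁻¹ * y := by rw [h2]
        _ = y * z ^ 4 := by group
    rw [← Module.End.mul_apply, ← map_mul, h1, map_mul, Module.End.mul_apply,
      fixed_pow hv' (Subgroup.pow_mem _ (Subgroup.mem_zpowers z) 4)]
  set f : Module.End K V := (((11 : ℕ) : K)⁻¹) • (ρ y * N) with hf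
  have hfC : ∀ v, f v ∈ C := fun v => C.smul_mem _ (hyC _ (hNC v))
  have hfy : ∀ v ∈ C, f v = ρ y v := by
    intro v hv
    rw [hf, LinearMap.smul_apply, Module.End.mul_apply, hCN v hv, map_smul, smul_smul, inv_mul_cancel₀ h11, one_smul]
  have htr : LinearMap.trace K V f = tc ρ y := by
    rw [hf, map_smul, hN, Finset.mul_sum, map_sum]
    have h1 : ∀ k ∈ Finset.range 11, LinearMap.trace K V (ρ y * ρ (z ^ k)) = tc ρ y := by
      intro k _
      rw [← map_mul, ← hc k]
      exact tc_conj y _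
    rw [Finset.sum_congr rfl h1, Finset.sum_const, Finset.card_range, ← Nat.cast_smul_eq_nsmul K, smul_smul,
      inv_mul_cancel₀ h11, one_smul]
  have htr2 := LinearMap.trace_restrict_eq_of_forall_mem C f hfC
  rw [htr] at htr2
  have hC2 : finrank K C = 2 := by
    rcases H.dims (by omega) with ⟨h6, -⟩ | ⟨-, -, h6⟩
    · omega
    · exact h6 z hz'
  have hT5 : (f.restrict (fun x _ => hfC x) : Module.End K C) ^ 5 = 1 := by
    apply LinearMap.ext
    intro v
    apply Subtype.ext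
    have key : ∀ k : ℕ, (((f.restrict (fun x _ => hfC x) : Module.End K C) ^ k) v : V) = ρ (y ^ k) v.1 := by
      intro k
      induction k with
      | zero => rw [pow_zero, pow_zero, map_one]; rfl
      | succ k ih =>
        rw [pow_succ', Module.End.mul_apply, pow_succ', map_mul, Module.End.mul_apply, ← ih]
        exact hfy _ (Subtype.prop _)
    rw [key, hy5, map_one]
    rfl
  have hne := trace_plane hC2 hT5
  rw [htr2] at hne
  obtain ⟨u, hu⟩ := H.five hy'
  have hcy := tc_cyc (ρ := ρ) hu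
  have h1 : tc ρ (y ^ 2) = tc ρ y := by
    have := hcy 1
    rwa [mul_one, pow_one] at this
  have hy0 : tc ρ y = 0 := by
    rw [hfr] at h1
    have h3 : tc ρ y * (tc ρ y - 1) = 0 := by linear_combination h1
    rcases mul_eq_zero.1 h3 with h4 | h4
    · exact h4
    · exact absurd (sub_eq_zero.1 h4) hne
  refine tc_all (by norm_num) (by rw [H.card_L]; norm_num) hy' hw ?_
  have a1 : tc ρ (y ^ 1) = 0 := by rw [pow_one, hy0]
  have a2 : tc ρ (y ^ 2) = 0 := by rw [h1, hy0]
  have a4 : tc ρ (y ^ 4) = 0 := by rw [show 4 = 2 * 2 by norm_num, hcy 2, a2]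
  have a3 : tc ρ (y ^ 3) = 0 := by
    have h5 : y ^ 3 = y ^ (2 * 4) := Fix.pow_mod hy5 (by decide)
    rw [h5, hcy 4, a4]
  intro j hj hj0
  interval_cases j
  · exact absurd rfl hj0
  · exact a1
  · exact a2
  · exact a3
  · exact a4

/-! ### cosets of a subgroup of order 16 -/

omit hfr in
theorem Hyp.coset {A : Subgroup Spor.M22} [Fintype A] (hA : Nat.card A = 16) :
    ∃ σ : A →* L, (∀ a, π (σ a) = a) ∧ ∀ x : L, ∑ a, tc ρ (x * σ a) = 0 := by
  obtain ⟨σ, hσ⟩ := exists_section H.surj (X := A) (by rw [H.card, hA]; norm_num)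
  refine ⟨σ, hσ, fun x => ?_⟩
  have h1 := norm_zero (ρ.comp σ) (k := 4) (by rw [hA]; norm_num) (by rw [hn]; norm_num)
  have h2 : ∑ a, tc ρ (x * σ a) = LinearMap.trace K V (ρ x * ∑ a, (ρ.comp σ) a) := by
    rw [Finset.mul_sum, map_sum]
    apply Finset.sum_congr rfl
    intro a _
    unfold tc
    rw [map_mul]
    rfl
  rw [h2, h1, mul_zero, map_zero]

omit hn hfr in
theorem Hyp.lift {g : L} {r : ℕ} (hr : r.Prime) (hr3 : r ≠ 3) (ho : orderOf (π g) = r) :
    ∃ w : L, orderOf w = r ∧ π w = π g ∧ ∃ d : K, d ≠ 0 ∧ tc ρ g = d * tc ρ w := by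
  obtain ⟨w, hw1, hw2⟩ := H908.exists_lift H.surj (π g) (by
    rw [H.card, ho]
    exact (Nat.coprime_primes Nat.prime_three hr).2 (Ne.symm hr3))
  obtain ⟨c, hc, hcw⟩ := H.exists_mul (g := g) (h := w) hw1.symm
  obtain ⟨d, hd, hd'⟩ := H.tc_smul hc
  exact ⟨w, hw2.trans ho, hw1, d, hd, by rw [hcw, hd']⟩

theorem Hyp.tc_fifth {g : L} (hg : (π g) ^ 5 = 1) : tc ρ g = 0 := by
  rcases (Nat.dvd_prime (by norm_num : Nat.Prime 5)).1 (orderOf_dvd_of_pow_eq_one hg) with h | h
  · rw [orderOf_eq_one_iff] at h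
    exact H.tc_ker hn (MonoidHom.mem_ker.2 h)
  · obtain ⟨w, hw, -, d, -, hd⟩ := H.lift (by norm_num) (by norm_num) h
    rw [hd, H.tc_five hn hfr hw, mul_zero]

theorem Hyp.tc_eleven {w : L} (hw : orderOf w = 11) : tc ρ w = 0 := by
  classical
  obtain ⟨A, x₁, a₁, x₂, b₁, b₂, hA⟩ := cos
  have : Fintype A := Fintype.ofFinite A
  obtain ⟨σ, hσ, hsum⟩ := H.coset hn hA.card
  obtain ⟨x, hx⟩ := H.surj x₁
  have h1 := hsum x
  have hπ : ∀ a : A, π (x * σ a) = x₁ * a := fun a => by rw [map_mul, hx, hσ]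
  rw [Finset.sum_eq_single (⟨a₁, hA.ha₁⟩ : A)] at h1
  · obtain ⟨z, hz, hz1, d, hd, hd'⟩ := H.lift (g := x * σ ⟨a₁, hA.ha₁⟩) (r := 11) (by norm_num) (by norm_num) (by
      rw [hπ]
      exact hA.o1)
    rw [hd'] at h1
    have z1 : tc ρ z = 0 := (mul_eq_zero.1 h1).resolve_left hd
    have hz11 : z ^ 11 = 1 := by rw [← hz, pow_orderOf_eq_one]
    obtain ⟨u, hu⟩ := H.eleven hz
    have hcy := tc_cyc (ρ := ρ) hu
    refine tc_all (by norm_num) (by rw [H.card_L]; norm_num) hz hw ?_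
    have m : ∀ {i j : ℕ}, i ≡ j [MOD 11] → tc ρ (z ^ i) = tc ρ (z ^ j) := fun hij => by rw [Fix.pow_mod hz11 hij]
    have c1 : tc ρ (z ^ 1) = 0 := by rw [pow_one, z1]
    have c2 : tc ρ (z ^ 2) = 0 := by rw [hfr, z1, zero_pow two_ne_zero]
    have c3 : tc ρ (z ^ 3) = 0 := (hcy 1).trans c1
    have c9 : tc ρ (z ^ 9) = 0 := (hcy 3).trans c3
    have c5 : tc ρ (z ^ 5) = 0 := (m (by decide)).trans ((hcy 9).trans c9)
    have c4 : tc ρ (z ^ 4) = 0 := (m (by decide)).trans ((hcy 5).trans c5)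
    have c6 : tc ρ (z ^ 6) = 0 := (hcy 2).trans c2
    have c7 : tc ρ (z ^ 7) = 0 := (m (by decide)).trans ((hcy 6).trans c6)
    have c10 : tc ρ (z ^ 10) = 0 := (m (by decide)).trans ((hcy 7).trans c7)
    have c8 : tc ρ (z ^ 8) = 0 := (m (by decide)).trans ((hcy 10).trans c10)
    intro j hj hj0
    interval_cases j
    · exact absurd rfl hj0
    · exact c1
    · exact c2
    · exact c3
    · exact c4
    · exact c5
    · exact c6
    · exact c7
    · exact c8
    · exact c9
    · exact c10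
  · intro a _ ha
    rcases hA.h1 a a.2 (fun h => ha (Subtype.ext h)) with h2 | h2
    · exact H.tc_exp hn hfr (by rw [hπ]; exact h2)
    · exact H.tc_fifth hn hfr (by rw [hπ]; exact h2)
  · intro h2
    exact absurd (Finset.mem_univ _) h2

/-! ### elements of order 7 -/

omit hn in
theorem Hyp.seven_tc {w : L} (hw : orderOf w = 7) : tc ρ w * (tc ρ w - 1) = 0 := by
  obtain ⟨u, hu⟩ := H.seven hw
  have h1 := tc_cyc (ρ := ρ) hu 1
  rw [mul_one, pow_one, hfr] at h1
  linear_combination h1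

/-- the traces of `w` and its inverse agree -/
theorem Hyp.seven_one : ∃ w : L, orderOf w = 7 ∧ tc ρ w⁻¹ = tc ρ w := by
  classical
  obtain ⟨A, x₁, a₁, x₂, b₁, b₂, hA⟩ := cos
  have : Fintype A := Fintype.ofFinite A
  obtain ⟨σ, hσ, hsum⟩ := H.coset hn hA.card
  obtain ⟨x, hx⟩ := H.surj x₂
  have h1 := hsum x
  have hπ : ∀ a : A, π (x * σ a) = x₂ * a := fun a => by rw [map_mul, hx, hσ]
  rw [Finset.sum_eq_add (⟨b₁, hA.hb₁⟩ : A) (⟨b₂, hA.hb₂⟩ : A)] at h1
  · obtain ⟨w, hw, hwπ, d, hd, hd'⟩ := H.lift (g := x * σ ⟨b₁, hA.hb₁⟩) (r := 7) (by norm_num) (by norm_num) (by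
      rw [hπ]
      exact hA.o2)
    obtain ⟨w', hw', hwπ', d', hd0, hd''⟩ := H.lift (g := x * σ ⟨b₂, hA.hb₂⟩) (r := 7) (by norm_num) (by norm_num) (by
      rw [hπ]
      obtain ⟨c, hc⟩ := isConj_iff.1 hA.c2
      have h2 := congrArg orderOf hc
      rw [orderOf_conj, orderOf_inv] at h2
      rw [← hA.o2]
      exact h2.symm)
    rw [hπ] at hwπ hwπ'
    have hconj : tc ρ w' = tc ρ w⁻¹ := by
      obtain ⟨c, hc⟩ := isConj_iff.1 hA.c2
      obtain ⟨C, hC⟩ := H.surj c
      have h2 : C * w * C⁻¹ = w'⁻¹ := by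
        apply H908.conj_lift H.cen
        · rw [map_mul, map_mul, map_inv, hC, hwπ, map_inv, hwπ']
          exact hc
        · rw [H.card, hw]; norm_num
        · rw [H.card, orderOf_inv, hw']; norm_num
      have h3 : C * w⁻¹ * C⁻¹ = w' := by
        rw [← inv_inv w', ← h2]
        group
      rw [← h3, tc_conj]
    refine ⟨w, hw, ?_⟩
    rw [hd', hd'', hconj] at h1
    have e1 := H.seven_tc hfr hw
    have e2 := H.seven_tc hfr (w := w⁻¹) (by rw [orderOf_inv, hw])
    rcases mul_eq_zero.1 e1 with e1 | e1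
    · rw [e1, mul_zero, zero_add] at h1
      rw [e1, (mul_eq_zero.1 h1).resolve_left hd0]
    · rcases mul_eq_zero.1 e2 with e2 | e2
      · rw [e2, mul_zero, add_zero, sub_eq_zero.1 e1, mul_one] at h1
        exact absurd h1 hd
      · rw [sub_eq_zero.1 e1, sub_eq_zero.1 e2]
  · intro h
    exact hA.ne (congrArg Subtype.val h)
  · intro a _ ha
    rcases hA.h2 a a.2 (fun h => ha.1 (Subtype.ext h)) (fun h => ha.2 (Subtype.ext h)) with h2 | h2
    · exact H.tc_exp hn hfr (by rw [hπ]; exact h2)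
    · exact H.tc_fifth hn hfr (by rw [hπ]; exact h2)
  · intro h2
    exact absurd (Finset.mem_univ _) h2
  · intro h2
    exact absurd (Finset.mem_univ _) h2

/-- elements of order 7 have the same trace, and fix nothing -/
theorem Hyp.seven_all : ∃ τ : K, τ * (τ - 1) = 0 ∧ ∀ w : L, orderOf w = 7 → tc ρ w = τ ∧ fx ρ w = 0 := by
  obtain ⟨z, hz, hzi⟩ := H.seven_one hn hfr
  refine ⟨tc ρ z, H.seven_tc hfr hz, ?_⟩
  have hz7 : z ^ 7 = 1 := by rw [← hz, pow_orderOf_eq_one]
  obtain ⟨u, hu⟩ := H.seven hz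
  have hcy := tc_cyc (ρ := ρ) hu
  have m : ∀ {i j : ℕ}, i ≡ j [MOD 7] → tc ρ (z ^ i) = tc ρ (z ^ j) := fun hij => by rw [Fix.pow_mod hz7 hij]
  have c1 : tc ρ (z ^ 1) = tc ρ z := by rw [pow_one]
  have c2 : tc ρ (z ^ 2) = tc ρ z := (hcy 1).trans c1
  have c4 : tc ρ (z ^ 4) = tc ρ z := (hcy 2).trans c2
  have c6 : tc ρ (z ^ 6) = tc ρ z := by
    have : z ^ 6 = z⁻¹ := by rw [eq_inv_iff_mul_eq_one, ← pow_succ, hz7]
    rw [this, hzi]
  have c5 : tc ρ (z ^ 5) = tc ρ z := (m (by decide)).trans ((hcy 6).trans c6)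
  have c3 : tc ρ (z ^ 3) = tc ρ z := (m (by decide)).trans ((hcy 5).trans c5)
  have hall : ∀ w : L, orderOf w = 7 → tc ρ w = tc ρ z := by
    intro w hw
    refine tc_all (by norm_num) (by rw [H.card_L]; norm_num) hz hw ?_
    intro j hj hj0
    interval_cases j
    · exact absurd rfl hj0
    · exact c1
    · exact c2
    · exact c3
    · exact c4
    · exact c5
    · exact c6
  intro w hw
  refine ⟨hall w hw, ?_⟩
  obtain ⟨v, hv⟩ := H.seven hw
  have h1 := sum_seven (ρ := ρ) (odd_ne (by norm_num)) (by rw [← hw, pow_orderOf_eq_one]) hv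
  rw [cast_zero H hn, hall w hw, hall w⁻¹ (by rw [orderOf_inv, hw])] at h1
  have h2 : (2 : K) = 0 := CharTwo.two_eq_zero
  have h3 : (fx ρ w : K) = 0 := by linear_combination (3 * tc ρ z - 3 * (fx ρ w : K)) * h2 - h1
  rw [CharP.cast_eq_zero_iff K 2] at h3
  rcases H.dims (by omega) with ⟨h6, -⟩ | ⟨-, h6, -⟩
  · omega
  · rcases h6 w hw with h7 | h7
    · exact h7
    · rw [h7] at h3
      omega

omit H hn hfr

theorem vec_pow {x : L} {v : V} {a : K} (h : ρ x v = a • v) (k : ℕ) : ρ (x ^ k) v = a ^ k • v := by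
  induction k with
  | zero => rw [pow_zero, pow_zero, map_one, one_smul, Module.End.one_apply]
  | succ k ih => rw [pow_succ, map_mul, Module.End.mul_apply, h, map_smul, ih, smul_smul, pow_succ, mul_comm]

theorem sub_mul' {x y : L} {S : Submodule K V} {a b : K} (hx : ∀ v, ρ x v - a • v ∈ S) (hy : ∀ v, ρ y v - b • v ∈ S)
    (v : V) : ρ (x * y) v - (a * b) • v ∈ S := by
  have h1 : ρ (x * y) v - (a * b) • v = (ρ x (ρ y v) - a • ρ y v) + a • (ρ y v - b • v) := by
    rw [map_mul, Module.End.mul_apply, smul_sub, smul_smul]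
    abel
  rw [h1]
  exact S.add_mem (hx _) (S.smul_mem _ (hy _))

theorem sub_pow' {x : L} {S : Submodule K V} {a : K} (hx : ∀ v, ρ x v - a • v ∈ S) (k : ℕ) (v : V) :
    ρ (x ^ k) v - a ^ k • v ∈ S := by
  induction k generalizing v with
  | zero =>
    rw [pow_zero, pow_zero, map_one, one_smul, Module.End.one_apply, sub_self]
    exact S.zero_mem
  | succ k ih =>
    rw [pow_succ, pow_succ]
    exact sub_mul' (fun v => ih v) hx v

include H hn

/-- **Scott's lemma for an involution and two elements of order 7.** -/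
theorem Hyp.seven_eig : ∃ w : L, orderOf w = 7 ∧ ∀ c : K, c ^ 7 = 1 → c ≠ 1 → eg ρ w c ≤ 2 := by
  obtain ⟨g₀, w₀, u₀, O⟩ := oct
  obtain ⟨g, hg, hg'⟩ := H908.exists_lift H.surj g₀ (by rw [H.card, O.hg]; norm_num)
  obtain ⟨w, hw, hw'⟩ := H908.exists_lift H.surj w₀ (by rw [H.card, O.hw]; norm_num)
  obtain ⟨u, hu, hu'⟩ := H908.exists_lift H.surj u₀ (by rw [H.card, O.hu]; norm_num)
  rw [O.hg] at hg'
  rw [O.hw] at hw'
  rw [O.hu] at hu'
  refine ⟨w, hw', fun c hc hc1 => ?_⟩
  have hw7 : w ^ 7 = 1 := by rw [← hw', pow_orderOf_eq_one]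
  have hu8 : u ^ 8 = 1 := by rw [← hu', pow_orderOf_eq_one]
  have hg2 : g * g = 1 := by rw [← pow_two, ← hg', pow_orderOf_eq_one]
  have hc0 : c ≠ 0 := by
    rintro rfl
    norm_num at hc
  -- the commutator
  have hcomm : g * (w * g * w⁻¹) = (w * g * w⁻¹) * g := by
    apply H908.commute_lift H.cen
    · rw [map_mul, map_mul, map_inv, hg, hw]
      exact O.hc
    · rw [orderOf_conj, H.card, hg']; norm_num
  have hgi : g⁻¹ = g := inv_eq_of_mul_eq_one_right hg2
  have hs2 : (g * (w * g * w⁻¹)) ^ 2 = 1 := by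
    rw [pow_two]
    calc g * (w * g * w⁻¹) * (g * (w * g * w⁻¹)) = g * (w * g * w⁻¹) * ((w * g * w⁻¹) * g) := by rw [hcomm]
      _ = g * (w * (g * g) * w⁻¹) * g := by group
      _ = g * (w * 1 * w⁻¹) * g := by rw [hg2]
      _ = g * g := by group
      _ = 1 := hg2
  have ht : g * (w * g * w⁻¹) = u ^ 4 := by
    apply H908.lift_unique H.cen
    · rw [map_mul, map_mul, map_mul, map_inv, map_pow, hg, hw, hu]
      exact O.ht
    · rw [H.card]
      exact (by norm_num : Nat.Coprime 3 2).coprime_dvd_right (orderOf_dvd_of_pow_eq_one hs2)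
    · rw [H.card]
      exact (by norm_num : Nat.Coprime 3 8).coprime_dvd_right (by rw [← hu']; exact orderOf_pow_dvd 4)
  have htw : u ^ 4 * w = g * w * g⁻¹ := by
    rw [← ht, hgi]
    group
  have h15 : (u ^ 4 * w ^ 3) ^ 15 = 1 := by
    have h1 : (u ^ 4 * w ^ 3) ^ 5 ∈ π.ker := by
      rw [MonoidHom.mem_ker, map_pow, map_mul, map_pow, map_pow, hu, hw]
      exact O.h5
    have h2 := H.cube h1
    rwa [← pow_mul] at h2
  have h45 : (c ^ 3) ^ 15 ≠ 1 := by
    intro h
    apply hc1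
    have h1 : (c ^ 3) ^ 15 = (c ^ 7) ^ 6 * c ^ 3 := by ring
    rw [h1, hc, one_pow, one_mul] at h
    calc c = (c ^ 7) * (c ^ 3) ^ 5 * (c ^ 3)⁻¹ ^ 7 := by field_simp
      _ = 1 := by rw [hc, h]; norm_num
  have hsc := scott_eig (ρ := ρ) (g := u ^ 4) (h := w) (c := 1) (d := c) one_ne_zero hc0 (by
    intro v h1 h2
    have h3 : ρ (u ^ 4 * w ^ 3) v = c ^ 3 • v := by
      rw [map_mul, Module.End.mul_apply, vec_pow h2 3, map_smul, h1, one_smul]
    have h4 := vec_pow h3 15
    rw [h15, map_one, Module.End.one_apply] at h4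
    have h5 : ((c ^ 3) ^ 15 - 1) • v = 0 := by rw [sub_smul, ← h4, one_smul, sub_self]
    exact (smul_eq_zero.1 h5).resolve_left (sub_ne_zero.2 h45)) (by
    intro S h1 h2
    rw [eq_top_iff]
    intro v _
    have h3 := sub_pow' (ρ := ρ) (sub_mul' (ρ := ρ) h1 (sub_pow' (ρ := ρ) h2 3)) 15 v
    rw [h15, map_one, Module.End.one_apply, one_mul] at h3
    have h5 : v - (c ^ 3) ^ 15 • v = (1 - (c ^ 3) ^ 15) • v := by rw [sub_smul, one_smul]
    rw [h5] at h3
    have h6 := S.smul_mem (1 - (c ^ 3) ^ 15)⁻¹ h3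
    rwa [smul_smul, inv_mul_cancel₀ (sub_ne_zero.2 (Ne.symm h45)), one_smul] at h6)
  rw [one_mul, htw, eg_conj, eg_one] at hsc
  have h8 := rank_four (ρ := ρ) hu8 hn
  omega

include hfr

theorem Hyp.tc_seven {w : L} (hw : orderOf w = 7) : tc ρ w = 0 := by
  obtain ⟨τ, hτ, hall⟩ := H.seven_all hn hfr
  rw [(hall w hw).1]
  by_contra hne
  have hτ1 : τ = 1 := sub_eq_zero.1 ((mul_eq_zero.1 hτ).resolve_left hne)
  obtain ⟨z, hz, hz2⟩ := H.seven_eig hn
  have hz7 : z ^ 7 = 1 := by rw [← hz, pow_orderOf_eq_one]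
  have h7 : ((7 : ℕ) : K) ≠ 0 := odd_ne (by norm_num)
  have h2 : (2 : K) = 0 := CharTwo.two_eq_zero
  have h1 := finrank_le_of_eig (ρ := ρ) h7 hz7 (m := 1) (by
    intro c hc
    by_cases hc1 : c = 1
    · rw [hc1, eg_one, (hall z hz).2]
      exact Nat.zero_le _
    · have hc0 : c ≠ 0 := by
        rintro rfl
        norm_num at hc
      have h3 := sum_trace_eig (ρ := ρ) h7 hz7 (c := c⁻¹) (by rw [inv_pow, hc, inv_one])
      rw [inv_inv] at h3
      have hk : ∀ k : ℕ, 0 < k → k < 7 → tc ρ (z ^ k) = 1 := by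
        intro k hk0 hk7
        rw [(hall (z ^ k) (by
          rw [(Nat.Coprime.orderOf_pow (y := z) (m := k) (by
            rw [hz]
            exact ((Nat.Prime.coprime_iff_not_dvd (by norm_num)).2 (Nat.not_dvd_of_pos_of_lt hk0 hk7)))), hz])).1, hτ1]
      simp only [Finset.sum_range_succ, Finset.sum_range_zero, zero_add, pow_zero, pow_one, one_mul] at h3
      have k1 := hk 1 (by norm_num) (by norm_num)
      have k2 := hk 2 (by norm_num) (by norm_num)
      have k3 := hk 3 (by norm_num) (by norm_num)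
      have k4 := hk 4 (by norm_num) (by norm_num)
      have k5 := hk 5 (by norm_num) (by norm_num)
      have k6 := hk 6 (by norm_num) (by norm_num)
      rw [pow_one] at k1
      rw [k1, k2, k3, k4, k5, k6, tc_one, cast_zero H hn] at h3
      -- geometric sum
      have h4 : 1 + c⁻¹ + c⁻¹ ^ 2 + c⁻¹ ^ 3 + c⁻¹ ^ 4 + c⁻¹ ^ 5 + c⁻¹ ^ 6 = 0 := by
        have h5 : (c⁻¹ - 1) * (1 + c⁻¹ + c⁻¹ ^ 2 + c⁻¹ ^ 3 + c⁻¹ ^ 4 + c⁻¹ ^ 5 + c⁻¹ ^ 6) = 0 := by
          have h6 : c⁻¹ ^ 7 = 1 := by rw [inv_pow, hc, inv_one]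
          linear_combination h6
        refine (mul_eq_zero.1 h5).resolve_left ?_
        intro h
        exact hc1 (inv_eq_one.1 (sub_eq_zero.1 h))
      have h5 : ((eg ρ z c : ℕ) : K) = 1 := by
        push_cast at h3
        linear_combination h3 - h4 + 4 * (eg ρ z c : K) * h2
      have h6 := hz2 c hc hc1
      have h8 : eg ρ z c ≠ 2 := by
        intro h
        rw [h] at h5
        push_cast at h5
        rw [h2] at h5
        exact zero_ne_one h5
      omega)
  omega

/-- **All traces are zero.** -/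
theorem Hyp.tc_zero (g : L) : tc ρ g = 0 := by
  have ho : orderOf g ≠ 0 := (orderOf_pos g).ne'
  obtain ⟨k, m, hm, hkm⟩ := Nat.exists_eq_two_pow_mul_odd ho
  have h1 : ¬ 2 ∣ orderOf (g ^ 2 ^ k) := by
    rw [orderOf_pow_of_dvd (by positivity) ⟨m, hkm⟩, hkm, Nat.mul_div_cancel_left _ (by positivity)]
    exact hm.not_two_dvd_nat
  have h2 := tc_two_pow hfr g k
  have h3 : tc ρ (g ^ 2 ^ k) = 0 := by
    set h := g ^ 2 ^ k with hh
    rcases odd (g := π h) (fun hd => h1 (hd.trans (orderOf_map_dvd π h))) with e | e | e | e | e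
    · rw [orderOf_eq_one_iff] at e
      exact H.tc_ker hn (MonoidHom.mem_ker.2 e)
    · exact H.tc_three e
    · exact H.tc_fifth hn hfr (by rw [← e, pow_orderOf_eq_one])
    · obtain ⟨w, hw, -, d, -, hd⟩ := H.lift (by norm_num) (by norm_num) e
      rw [hd, H.tc_seven hn hfr hw, mul_zero]
    · obtain ⟨w, hw, -, d, -, hd⟩ := H.lift (by norm_num) (by norm_num) e
      rw [hd, H.tc_eleven hn hfr hw, mul_zero]
  rw [h3] at h2
  exact (pow_eq_zero_iff (by positivity)).1 h2.symm

end main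

end Cfsg.Agent.H921.M22.Rp
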