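import Cfsg.Agent.H921.M22.Two
import Cfsg.Agent.H921.M22.Twelve

/-!
# Cores with socle `M22` in characteristic two, degree at most 12: degree 6 or 10
-/

set_option autoImplicit false
set_option linter.unusedSectionVars false

namespace Cfsg.Agent.H921.M22

open Cfsg Cfsg.Geo Matrix H915.LD Module
open Cfsg.Agent.H921.M22.Fix (Dat fx)
open Cfsg.Agent.H921.M22.Rp (tc Hyp)
open Cfsg.Agent.H911.Five (rep rep_irr trace_rep rep_injective)

universe u

variable {ι : Type} [Fintype ι] [DecidableEq ι] {F : Type u} [Field F] {P : Subgroup (GL ι F)}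

/-- some trace of an absolutely irreducible group is not zero -/
theorem exists_tr_ne_zero [Nonempty ι] (hP : ActsAbsolutelyIrreducibly (matrixSet P)) : ∃ g ∈ P, tr g ≠ 0 := by
  by_contra hcon
  push Not at hcon
  have hspan := Cfsg.Agent.H920.span_eq_top hP
  have key : ∀ M : Matrix ι ι F, M.trace = 0 := by
    intro M
    have hM : M ∈ Submodule.span F (matrixSet P) := by rw [hspan]; trivial
    induction hM using Submodule.span_induction with
    | mem x hx =>
      obtain ⟨g, hg, rfl⟩ := hx
      exact hcon g hg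
    | zero => exact Matrix.trace_zero ι F
    | add x y _ _ hx hy => rw [Matrix.trace_add, hx, hy, add_zero]
    | smul c x _ hx => rw [Matrix.trace_smul, hx, smul_zero]
  obtain ⟨i⟩ := ‹Nonempty ι›
  have h1 := key (Matrix.single i i 1)
  rw [Matrix.trace_single_eq_same] at h1
  exact one_ne_zero h1

variable [Finite F] [CharP F 2] (e : Soc P ≃* Spor.M22) (hC : Core P)

include e hC

theorem not_twelve (hn : Fintype.card ι = 12) (h1 : Nat.card (ph e).ker = 3) : False := by
  have H := hyp e hC h1
  have hne := hC.nonempty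
  have hfin : Finite P := inferInstance
  obtain ⟨g, hg, hg0⟩ := exists_tr_ne_zero hC.absIrred
  apply hg0
  apply (algebraMap F (AlgebraicClosure F)).injective
  rw [map_zero]
  have h2 := H.tc_zero (by rw [finrank_eq, hn]) (by
    intro g
    rw [tc_rep, tc_rep, ← map_pow, ← tr_sq]
    rfl) ⟨g, hg⟩
  rwa [tc_rep] at h2

/-- **Cores with socle `M22` in characteristic two and degree at most 12.** -/
theorem main (hn : Fintype.card ι ≤ 12) :
    (Fintype.card ι = 6 ∧ Cj P 2) ∨ (Fintype.card ι = 10 ∧ Fr P 2 ∧ ¬ SD P) := by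
  rcases two e hC hn with h | h | ⟨h, h'⟩
  · exact Or.inl h
  · exact Or.inr h
  · exact (not_twelve e hC h h').elim

/-- **Self-dual cores with socle `M22` in characteristic two have degree 6.** -/
theorem six_of_sd (hn : Fintype.card ι ≤ 12) (hsd : SD P) : Fintype.card ι = 6 ∧ Cj P 2 := by
  rcases main e hC hn with h | ⟨-, -, h⟩
  · exact h
  · exact (h hsd).elim

end Cfsg.Agent.H921.M22
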