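import Cfsg.Agent.H921.M22.Facts

/-!
# Facts on `M22`: the subgroup `3 ^ 2`, orders of elements
-/

set_option autoImplicit false

namespace Cfsg.Agent.H921.M22.Facts

open Cfsg Subgroup Cfsg.Agent.SporadicA.GolayBase Cfsg.Agent.SporadicA.GolayPerm
open Cfsg.Agent.SporadicStructure.M24El Cfsg.Agent.H921.Spor.M24

/-- The group `3 ^ 2` with a quaternion group. -/
structure Nine {T : Type*} [Group T] (a b q₁ q₂ : T) : Prop where
  ha : orderOf a = 3
  hb : orderOf b = 3
  hab : a * b = b * a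
  h1 : q₁ * a * q₁⁻¹ = b
  h2 : q₁ * b * q₁⁻¹ = a ^ 2
  h3 : q₂ * a * q₂⁻¹ = a * b
  h4 : q₂ * b * q₂⁻¹ = a * b ^ 2
  ne : ∀ i < 3, ∀ j < 3, a ^ i * b ^ j = 1 → i = 0 ∧ j = 0

theorem nine : ∃ a b q₁ q₂ : Spor.M22, Nine a b q₁ q₂ := by
  have oa : okM pa = true := okA (by simp)
  have ob : okM pb = true := okA (by simp)
  have o1 : okM pq1 = true := okA (by simp)
  have o2 : okM pq2 = true := okA (by simp)
  refine ⟨mk pa, mk pb, mk pq1, mk pq2, ?_, ?_, ?_, ?_, ?_, ?_, ?_, ?_⟩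
  · exact order_mk (by norm_num) oa (by decide +kernel) (i := 1) (by norm_num) (by decide +kernel)
  · exact order_mk (by norm_num) ob (by decide +kernel) (i := 1) (by norm_num) (by decide +kernel)
  · rw [← mk_pcomp oa ob, ← mk_pcomp ob oa, show pcomp pa pb = pcomp pb pa by decide +kernel]
  · exact mk_conj o1 oa ob (by decide +kernel)
  · rw [← mk_ppow oa]
    exact mk_conj o1 ob (okM_ppow oa 2) (by decide +kernel)
  · rw [← mk_pcomp oa ob]
    exact mk_conj o2 oa (okM_pcomp oa ob) (by decide +kernel)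
  · rw [← mk_ppow ob, ← mk_pcomp oa (okM_ppow ob 2)]
    exact mk_conj o2 ob (okM_pcomp oa (okM_ppow ob 2)) (by decide +kernel)
  · have h : ∀ i < 3, ∀ j < 3, (i ≠ 0 ∨ j ≠ 0) → ∃ k < 24, papp (pcomp (ppow pa i) (ppow pb j)) k ≠ k := by
      decide +kernel
    intro i hi j hj hij
    by_contra hne
    obtain ⟨k, hk, hkne⟩ := h i hi j hj (by omega)
    rw [← mk_ppow oa, ← mk_ppow ob, ← mk_pcomp (okM_ppow oa i) (okM_ppow ob j)] at hij
    exact mk_ne_one (okM_pcomp (okM_ppow oa i) (okM_ppow ob j)) hk hkne hij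

section order

variable {T : Type*} [Group T] [Finite T]

/-- an element of order `r`, Sylow, with a small centralizer: elements of order divisible by `r` have order `r` -/
theorem order_eq {r : ℕ} (hr : r.Prime) (hT : ¬ r ^ 2 ∣ Nat.card T) {x₀ : T} (hx₀ : orderOf x₀ = r)
    (hc : Nat.card (centralizer ({x₀} : Set T)) ≤ r) {g : T} (hg : r ∣ orderOf g) : orderOf g = r := by
  have : Fact r.Prime := ⟨hr⟩
  have ho : 0 < orderOf g := orderOf_pos g
  obtain ⟨m, hm⟩ := hg
  have hm0 : m ≠ 0 := by rintro rfl; omega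
  have hz : orderOf (g ^ m) = r := by
    rw [orderOf_pow_of_dvd hm0 ⟨r, by rw [hm, mul_comm]⟩, hm, Nat.mul_div_cancel _ (Nat.pos_of_ne_zero hm0)]
  have hf : (Nat.card T).factorization r = 1 := by
    have h1 : r ∣ Nat.card T := by rw [← hx₀]; exact orderOf_dvd_natCard x₀
    have h2 : Nat.card T ≠ 0 := Nat.card_pos.ne'
    have h3 := (hr.dvd_iff_one_le_factorization h2).1 h1
    have h4 : ¬ 2 ≤ (Nat.card T).factorization r := fun h => hT ((hr.pow_dvd_iff_le_factorization h2).2 h)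
    omega
  let S : Sylow r T := Sylow.ofCard (zpowers (g ^ m)) (by rw [Nat.card_zpowers, hz, hf, pow_one])
  let S₀ : Sylow r T := Sylow.ofCard (zpowers x₀) (by rw [Nat.card_zpowers, hx₀, hf, pow_one])
  obtain ⟨c, hc'⟩ := MulAction.exists_smul_eq T S₀ S
  have h1 : c * x₀ * c⁻¹ ∈ (c • S₀ : Sylow r T) := by
    rw [Sylow.smul_def]
    exact ⟨x₀, mem_zpowers x₀, rfl⟩
  rw [hc'] at h1
  obtain ⟨j, hj⟩ := mem_zpowers_iff.1 (show c * x₀ * c⁻¹ ∈ zpowers (g ^ m) from h1)
  have h2 : c⁻¹ * g * c ∈ centralizer ({x₀} : Set T) := by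
    rw [mem_centralizer_singleton_iff]
    have h3 : g * (g ^ m) ^ j = (g ^ m) ^ j * g := by
      rw [← zpow_natCast, ← zpow_mul]
      exact (Commute.self_zpow g _).eq
    rw [hj] at h3
    calc c⁻¹ * g * c * x₀ = c⁻¹ * (g * (c * x₀ * c⁻¹)) * c := by group
      _ = c⁻¹ * (c * x₀ * c⁻¹ * g) * c := by rw [h3]
      _ = x₀ * (c⁻¹ * g * c) := by group
  have h3 : orderOf (c⁻¹ * g * c) = orderOf g := by
    have := orderOf_injective (MulAut.conj c⁻¹).toMonoidHom (MulAut.conj c⁻¹).injective g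
    simpa using this
  have h4 : orderOf g ≤ r := by
    rw [← h3, ← Subgroup.orderOf_mk _ h2]
    exact (Nat.le_of_dvd Nat.card_pos (orderOf_dvd_natCard _)).trans hc
  refine le_antisymm h4 (Nat.le_of_dvd ho ⟨m, hm⟩)

end order

/-- **Elements of odd order have order 1, 3, 5, 7, 11.** -/
theorem odd {g : Spor.M22} (hg : ¬ 2 ∣ orderOf g) :
    orderOf g = 1 ∨ orderOf g = 3 ∨ orderOf g = 5 ∨ orderOf g = 7 ∨ orderOf g = 11 := by
  have hd : orderOf g ∣ 443520 := by rw [← card_M22]; exact orderOf_dvd_natCard g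
  have ho : 0 < orderOf g := orderOf_pos g
  by_cases h11 : 11 ∣ orderOf g
  · obtain ⟨x, hx, hx'⟩ := H968.TwoM22.three.eleven
    right; right; right; right
    exact order_eq (by norm_num) (by rw [card_M22]; norm_num) hx hx' h11
  by_cases h7 : 7 ∣ orderOf g
  · obtain ⟨x, hx, hx'⟩ := H968.TwoM22.three.seven
    right; right; right; left
    exact order_eq (by norm_num) (by rw [card_M22]; norm_num) hx hx' h7
  by_cases h3 : 3 ∣ orderOf g
  · right; left
    obtain ⟨s, t, g', a1, a2, a3, a4, a5, a6, a7, a8⟩ := H968.TwoM22.three.three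
    obtain ⟨m, hm⟩ := h3
    have hm0 : m ≠ 0 := by rintro rfl; omega
    have hz : orderOf (g ^ m) = 3 := by
      rw [orderOf_pow_of_dvd hm0 ⟨3, by rw [hm, mul_comm]⟩, hm, Nat.mul_div_cancel _ (Nat.pos_of_ne_zero hm0)]
    obtain ⟨c, hc⟩ := isConj_iff.1 (a6 _ hz)
    have h2 : c⁻¹ * g * c ∈ centralizer ({s} : Set Spor.M22) := by
      rw [mem_centralizer_singleton_iff]
      have h3 : g * g ^ m = g ^ m * g := (Commute.self_pow g m).eq
      rw [← hc] at h3
      calc c⁻¹ * g * c * s = c⁻¹ * (g * (c * s * c⁻¹)) * c := by group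
        _ = c⁻¹ * (c * s * c⁻¹ * g) * c := by rw [h3]
        _ = s * (c⁻¹ * g * c) := by group
    have h3 : orderOf (c⁻¹ * g * c) = orderOf g := by
      have := orderOf_injective (MulAut.conj c⁻¹).toMonoidHom (MulAut.conj c⁻¹).injective g
      simpa using this
    have h4 : orderOf g ∣ 36 := by
      rw [← h3, ← Subgroup.orderOf_mk _ h2, ← a5]
      exact orderOf_dvd_natCard _
    have h5 : orderOf g = 3 ∨ orderOf g = 9 := by
      have h6 : orderOf g ≤ 36 := Nat.le_of_dvd (by norm_num) h4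
      exact (by decide : ∀ n ≤ 36, n ∣ 36 → ¬ 2 ∣ n → 3 ∣ n → n = 3 ∨ n = 9) _ h6 h4 hg ⟨m, hm⟩
    rcases h5 with h5 | h5
    · exact h5
    exfalso
    obtain ⟨E, hE, hE'⟩ := H968.TwoM22.exists_E (by rw [← a1, pow_orderOf_eq_one]) (by rw [← a2, pow_orderOf_eq_one])
      a3 a4
    obtain ⟨d, hd'⟩ := H968.TwoM22.conj_nine (G := Spor.M22) (by rw [card_M22]; norm_num) hE
      (P := zpowers g) (by
        apply IsPGroup.of_card (n := 2)
        rw [Nat.card_zpowers, h5]
        norm_num)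
    obtain ⟨i, -, j, -, hij⟩ := (hE' _).1 (hd' g (mem_zpowers g))
    have h6 : (d * g * d⁻¹) ^ 3 = 1 := by
      have hcm : Commute (s ^ i) (t ^ j) := (show Commute s t from a3).pow_pow i j
      rw [hij, hcm.mul_pow, ← pow_mul, ← pow_mul, mul_comm i, mul_comm j, pow_mul, pow_mul]
      have hs : s ^ 3 = 1 := by rw [← a1, pow_orderOf_eq_one]
      have ht : t ^ 3 = 1 := by rw [← a2, pow_orderOf_eq_one]
      rw [hs, ht, one_pow, one_pow, one_mul]
    rw [conj_pow] at h6
    have h7 : g ^ 3 = 1 := by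
      have h8 : d * g ^ 3 = d := by
        have := mul_inv_eq_one.1 h6
        exact this
      exact mul_eq_left.1 h8
    have h8 := orderOf_dvd_of_pow_eq_one h7
    rw [h5] at h8
    omega
  · -- order dividing 5
    have h5 : orderOf g ∣ 5 := by
      have h6 : Nat.Coprime (orderOf g) (2 ^ 7 * 3 ^ 2 * 7 * 11) := by
        have c2 := ((Nat.Prime.coprime_iff_not_dvd Nat.prime_two).2 hg).symm
        have c3 := ((Nat.Prime.coprime_iff_not_dvd Nat.prime_three).2 h3).symm
        have c7 := ((Nat.Prime.coprime_iff_not_dvd (by norm_num : Nat.Prime 7)).2 h7).symm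
        have c11 := ((Nat.Prime.coprime_iff_not_dvd (by norm_num : Nat.Prime 11)).2 h11).symm
        exact Nat.Coprime.mul_right (Nat.Coprime.mul_right (Nat.Coprime.mul_right (c2.pow_right _) (c3.pow_right _)) c7) c11
      refine h6.dvd_of_dvd_mul_left ?_
      norm_num
      exact hd
    rcases (Nat.dvd_prime (by norm_num : Nat.Prime 5)).1 h5 with h6 | h6
    · exact Or.inl h6
    · exact Or.inr (Or.inr (Or.inl h6))

end Cfsg.Agent.H921.M22.Facts
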