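import Cfsg.Agent.H921.SporM24
import Cfsg.Agent.H968.TwoM22Fact
import Cfsg.Agent.H994.TwoGen.M22

/-!
# Facts on `M22`

* `three` : elements of order 3 are conjugate; `five`, `seven`, `eleven` : `u z u⁻¹ = z ^ 2`, `z ^ 2`, `z ^ 3`;
* `odd` : elements of odd order have order 1, 3, 5, 7, 11;
* `nine` : a subgroup `3 ^ 2` with a quaternion group;
* `gen_eleven`, `gen_seven`, `gen_zz` : generation by two elements of order 3 with product of order 11, 7, and by two
  elements of order 11 with product of order 11.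
-/

set_option autoImplicit false

namespace Cfsg.Agent.H921.M22.Facts

open Cfsg Subgroup Cfsg.Agent.SporadicA.GolayBase Cfsg.Agent.SporadicA.GolayPerm
open Cfsg.Agent.SporadicStructure.M24El Cfsg.Agent.H921.Spor.M24

/-! ### packed elements -/

/-- packed element of `M22` -/
def okM (P : ℕ) : Bool := ok P && Nat.beq (papp P 23) 23 && Nat.beq (papp P 0) 0

theorem okM.ok {P : ℕ} (h : okM P = true) : ok P = true := by
  unfold okM at h
  rw [Bool.and_eq_true, Bool.and_eq_true] at h
  exact h.1.1

open Classical in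
/-- the element -/
noncomputable def mk (P : ℕ) : Spor.M22 := if h : okM P = true then ⟨el P, mem_M22 h⟩ else 1

theorem coe_mk {P : ℕ} (h : okM P = true) : ((mk P : Spor.M22) : Equiv.Perm GolayPt) = el P := by
  unfold mk
  rw [dif_pos h]

theorem okM_pcomp {P Q : ℕ} (hP : okM P = true) (hQ : okM Q = true) : okM (pcomp P Q) = true := by
  have h1 := okM.ok hP
  have h2 := okM.ok hQ
  unfold okM at hP hQ ⊢
  rw [Bool.and_eq_true, Bool.and_eq_true] at hP hQ ⊢
  obtain ⟨⟨-, a1⟩, a2⟩ := hP
  obtain ⟨⟨-, b1⟩, b2⟩ := hQ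
  refine ⟨⟨ok_pcomp h1 h2, ?_⟩, ?_⟩
  · rw [papp_pcomp P Q (by norm_num), Nat.eq_of_beq_eq_true b1]
    exact a1
  · rw [papp_pcomp P Q (by norm_num), Nat.eq_of_beq_eq_true b2]
    exact a2

theorem mk_pcomp {P Q : ℕ} (hP : okM P = true) (hQ : okM Q = true) : mk (pcomp P Q) = mk P * mk Q := by
  apply Subtype.ext
  rw [coe_mk (okM_pcomp hP hQ), el_pcomp (okM.ok hP) (okM.ok hQ), Subgroup.coe_mul, Subgroup.coe_mul, coe_mk hP,
    coe_mk hQ]

theorem okM_idP : okM idP = true := by decide +kernel

theorem mk_idP : mk idP = 1 := by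
  apply Subtype.ext
  rw [coe_mk okM_idP, el_idP]
  rfl

theorem okM_ppow {P : ℕ} (h : okM P = true) (n : ℕ) : okM (ppow P n) = true := by
  induction n with
  | zero => exact okM_idP
  | succ n ih => exact okM_pcomp h ih

theorem mk_ppow {P : ℕ} (h : okM P = true) (n : ℕ) : mk (ppow P n) = mk P ^ n := by
  induction n with
  | zero => rw [pow_zero]; exact mk_idP
  | succ n ih =>
    change mk (pcomp P (ppow P n)) = _
    rw [mk_pcomp h (okM_ppow h n), ih, pow_succ']

theorem mk_ne_one {P : ℕ} (hP : okM P = true) {i : ℕ} (hi : i < 24) (h : papp P i ≠ i) : mk P ≠ 1 := by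
  intro h1
  have h2 := congrArg (Subtype.val (p := fun x => x ∈ Spor.M22)) h1
  rw [coe_mk hP] at h2
  exact el_ne_one (okM.ok hP) hi h (Subtype.ext h2)

theorem order_mk {P r : ℕ} (hr : r.Prime) (hP : okM P = true) (h : ppow P r = idP) {i : ℕ} (hi : i < 24)
    (hne : papp P i ≠ i) : orderOf (mk P) = r := by
  have : Fact r.Prime := ⟨hr⟩
  apply orderOf_eq_prime
  · rw [← mk_ppow hP, h, mk_idP]
  · exact mk_ne_one hP hi hne

/-- packed conjugation relation -/
theorem mk_conj {U P Q : ℕ} (hU : okM U = true) (hP : okM P = true) (hQ : okM Q = true)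
    (h : pcomp U P = pcomp Q U) : mk U * mk P * (mk U)⁻¹ = mk Q := by
  rw [mul_inv_eq_iff_eq_mul, ← mk_pcomp hU hP, ← mk_pcomp hQ hU, h]

/-- value of a word -/
def wv (l : List ℕ) : List ℕ → ℕ
  | [] => idP
  | i :: w => pcomp (l.getD i idP) (wv l w)

theorem wv_mem {l : List ℕ} (hl : ∀ P ∈ l, okM P = true) (M : Subgroup Spor.M22) (hM : ∀ P ∈ l, mk P ∈ M)
    (w : List ℕ) : okM (wv l w) = true ∧ mk (wv l w) ∈ M := by
  have key : ∀ i, okM (l.getD i idP) = true ∧ mk (l.getD i idP) ∈ M := by
    intro i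
    rcases mem_or_getD (X := l) i with h | h
    · exact ⟨hl _ h, hM _ h⟩
    · rw [h]
      exact ⟨okM_idP, by rw [mk_idP]; exact M.one_mem⟩
  induction w with
  | nil => exact ⟨okM_idP, by change mk idP ∈ M; rw [mk_idP]; exact M.one_mem⟩
  | cons i w ih =>
    refine ⟨okM_pcomp (key i).1 ih.1, ?_⟩
    change mk (pcomp _ _) ∈ M
    rw [mk_pcomp (key i).1 ih.1]
    exact M.mul_mem (key i).2 ih.2

def pa : ℕ := 977542999135081005670879123266552064
def pb : ℕ := 978318480669526499752119938773092960
def pq1 : ℕ := 967677631548944687450613297713681664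
def pq2 : ℕ := 976864285565559300649151281762490720
def pX : ℕ := 961331994228015734230210538401924384
def pY : ℕ := 979603689399033154365502228401887840
def pXi : ℕ := 971792702063085255298101593417913408
def p5 : ℕ := 961082556541026137261266935874934016
def pu5 : ℕ := 971871278461266454259959989964821728
def p7 : ℕ := 961494259036883443119923220613221856
def pu7 : ℕ := 963767361025088568998653707437972512
def pu11 : ℕ := 978289236970339193415844103832581600
def ps1 : ℕ := 969869831475573499314867724532877600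
def ps2 : ℕ := 982093578127259812432453999941291040
def ps1i : ℕ := 963801627046785127812586285255919712
def ps2i : ℕ := 975287932184123420360272088865510432
def pz2 : ℕ := 975546400528694387686823288679913760
def pz2i : ℕ := 958473833347811182881992378445713568
def pt1 : ℕ := 974025568251418192811585454561500192
def pt2 : ℕ := 984650981574006461436432030682564960
def pt1i : ℕ := 980254506392237619976628590768112672
def pt2i : ℕ := 984723071865036806205632663362150784

theorem ok_all : [pa, pb, pq1, pq2, pX, pY, pXi, p5, pu5, p7, pu7, pu11, ps1, ps2, ps1i, ps2i, pz2, pz2i, pt1, pt2,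
    pt1i, pt2i].all okM = true := by decide +kernel

theorem okA {P : ℕ} (h : P ∈ [pa, pb, pq1, pq2, pX, pY, pXi, p5, pu5, p7, pu7, pu11, ps1, ps2, ps1i, ps2i, pz2, pz2i,
    pt1, pt2, pt1i, pt2i]) : okM P = true := List.all_eq_true.1 ok_all P h

/-! ### generation -/

theorem coe_X : ((mk pX : Spor.M22) : Equiv.Perm GolayPt) = H994.TwoGen.M22.X := by
  rw [coe_mk (okA (by simp))]
  apply Equiv.ext
  intro p
  have h1 := el_smul_pt (okM.ok (okA (P := pX) (by simp))) p
  have h2 : ∀ p : GolayPt, pt (papp pX (idx p)) = H994.TwoGen.M22.X p := by decide +kernel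
  rw [← h2]
  exact h1

theorem coe_Y : ((mk pY : Spor.M22) : Equiv.Perm GolayPt) = H994.TwoGen.M22.Y := by
  rw [coe_mk (okA (by simp))]
  apply Equiv.ext
  intro p
  have h1 := el_smul_pt (okM.ok (okA (P := pY) (by simp))) p
  have h2 : ∀ p : GolayPt, pt (papp pY (idx p)) = H994.TwoGen.M22.Y p := by decide +kernel
  rw [← h2]
  exact h1

theorem closure_XY : Subgroup.closure ({mk pX, mk pY} : Set Spor.M22) = ⊤ := by
  apply Subgroup.map_injective Spor.M22.subtype_injective
  rw [MonoidHom.map_closure, Set.image_pair]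
  change Subgroup.closure ({((mk pX : Spor.M22) : Equiv.Perm GolayPt), ((mk pY : Spor.M22) : Equiv.Perm GolayPt)} :
    Set (Equiv.Perm GolayPt)) = _
  rw [coe_X, coe_Y, H994.TwoGen.M22.closure_eq, ← MonoidHom.range_eq_map, Subgroup.range_subtype]

theorem eq_top_of_XY (M : Subgroup Spor.M22) (hX : mk pX ∈ M) (hY : mk pY ∈ M) : M = ⊤ := by
  rw [eq_top_iff, ← closure_XY, Subgroup.closure_le]
  rintro y (rfl | rfl)
  · exact hX
  · exact hY

theorem mk_inv {P Q : ℕ} (hP : okM P = true) (hQ : okM Q = true) (h : pcomp P Q = idP) : mk Q = (mk P)⁻¹ := by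
  apply eq_inv_of_mul_eq_one_right
  rw [← mk_pcomp hP hQ, h, mk_idP]

/-- **Two elements of order 3 with product of order 11.** -/
theorem gen_eleven : ∃ x y : Spor.M22, orderOf x = 3 ∧ orderOf y = 3 ∧ orderOf (x * y) = 11 ∧
    Subgroup.closure ({x, y} : Set Spor.M22) = ⊤ := by
  have o1 : okM ps1 = true := okA (by simp)
  have o2 : okM ps2 = true := okA (by simp)
  have o1i : okM ps1i = true := okA (by simp)
  have o2i : okM ps2i = true := okA (by simp)
  have oX : okM pX = true := okA (by simp)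
  have hX : mk ps1 * mk ps2 = mk pX := by
    rw [← mk_pcomp o1 o2, show pcomp ps1 ps2 = pX by decide +kernel]
  refine ⟨mk ps1, mk ps2, order_mk Nat.prime_three o1 (by decide +kernel) (i := 1) (by norm_num) (by decide +kernel),
    order_mk Nat.prime_three o2 (by decide +kernel) (i := 2) (by norm_num) (by decide +kernel), ?_, ?_⟩
  · rw [hX]
    exact order_mk (by norm_num) oX (by decide +kernel) (i := 1) (by norm_num) (by decide +kernel)
  · have m1 : mk ps1 ∈ Subgroup.closure ({mk ps1, mk ps2} : Set Spor.M22) := Subgroup.subset_closure (by simp)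
    have m2 : mk ps2 ∈ Subgroup.closure ({mk ps1, mk ps2} : Set Spor.M22) := Subgroup.subset_closure (by simp)
    apply eq_top_of_XY
    · rw [← hX]
      exact Subgroup.mul_mem _ m1 m2
    · have h := (wv_mem (l := [ps1, ps2, ps1i, ps2i]) (by
          intro P hP
          apply okA
          fin_cases hP <;> simp) (Subgroup.closure ({mk ps1, mk ps2} : Set Spor.M22)) (by
          intro P hP
          simp only [List.mem_cons, List.not_mem_nil, or_false] at hP
          rcases hP with rfl | rfl | rfl | rfl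
          · exact m1
          · exact m2
          · rw [mk_inv o1 o1i (by decide +kernel)]; exact Subgroup.inv_mem _ m1
          · rw [mk_inv o2 o2i (by decide +kernel)]; exact Subgroup.inv_mem _ m2)
          [1, 2, 1, 0, 3, 2, 3, 0, 3, 2, 3, 0, 1]).2
      rwa [show wv [ps1, ps2, ps1i, ps2i] [1, 2, 1, 0, 3, 2, 3, 0, 3, 2, 3, 0, 1] = pY by decide +kernel] at h

/-- **Two elements of order 11 with product of order 11.** -/
theorem gen_zz : ∃ x y : Spor.M22, orderOf x = 11 ∧ orderOf y = 11 ∧ orderOf (x * y) = 11 ∧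
    Subgroup.closure ({x, y} : Set Spor.M22) = ⊤ := by
  have o1 : okM pX = true := okA (by simp)
  have o2 : okM pz2 = true := okA (by simp)
  have o1i : okM pXi = true := okA (by simp)
  have o2i : okM pz2i = true := okA (by simp)
  have h11 : Nat.Prime 11 := by norm_num
  refine ⟨mk pX, mk pz2, order_mk h11 o1 (by decide +kernel) (i := 1) (by norm_num) (by decide +kernel),
    order_mk h11 o2 (by decide +kernel) (i := 1) (by norm_num) (by decide +kernel), ?_, ?_⟩
  · rw [← mk_pcomp o1 o2]
    exact order_mk h11 (okM_pcomp o1 o2) (by decide +kernel) (i := 1) (by norm_num) (by decide +kernel)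
  · have m1 : mk pX ∈ Subgroup.closure ({mk pX, mk pz2} : Set Spor.M22) := Subgroup.subset_closure (by simp)
    have m2 : mk pz2 ∈ Subgroup.closure ({mk pX, mk pz2} : Set Spor.M22) := Subgroup.subset_closure (by simp)
    apply eq_top_of_XY _ m1
    have h := (wv_mem (l := [pX, pz2, pXi, pz2i]) (by
        intro P hP
        apply okA
        fin_cases hP <;> simp) (Subgroup.closure ({mk pX, mk pz2} : Set Spor.M22)) (by
        intro P hP
        simp only [List.mem_cons, List.not_mem_nil, or_false] at hP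
        rcases hP with rfl | rfl | rfl | rfl
        · exact m1
        · exact m2
        · rw [mk_inv o1 o1i (by decide +kernel)]; exact Subgroup.inv_mem _ m1
        · rw [mk_inv o2 o2i (by decide +kernel)]; exact Subgroup.inv_mem _ m2) [0, 1, 0, 1, 2, 3, 0, 3, 2]).2
    rwa [show wv [pX, pz2, pXi, pz2i] [0, 1, 0, 1, 2, 3, 0, 3, 2] = pY by decide +kernel] at h

/-- **Two elements of order 3 with product of order 7.** -/
theorem gen_seven : ∃ x y : Spor.M22, orderOf x = 3 ∧ orderOf y = 3 ∧ orderOf (x * y) = 7 ∧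
    Subgroup.closure ({x, y} : Set Spor.M22) = ⊤ := by
  have o1 : okM pt1 = true := okA (by simp)
  have o2 : okM pt2 = true := okA (by simp)
  have o1i : okM pt1i = true := okA (by simp)
  have o2i : okM pt2i = true := okA (by simp)
  refine ⟨mk pt1, mk pt2, order_mk Nat.prime_three o1 (by decide +kernel) (i := 2) (by norm_num) (by decide +kernel),
    order_mk Nat.prime_three o2 (by decide +kernel) (i := 2) (by norm_num) (by decide +kernel), ?_, ?_⟩
  · rw [← mk_pcomp o1 o2]
    exact order_mk (by norm_num) (okM_pcomp o1 o2) (by decide +kernel) (i := 1) (by norm_num) (by decide +kernel)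
  · have m1 : mk pt1 ∈ Subgroup.closure ({mk pt1, mk pt2} : Set Spor.M22) := Subgroup.subset_closure (by simp)
    have m2 : mk pt2 ∈ Subgroup.closure ({mk pt1, mk pt2} : Set Spor.M22) := Subgroup.subset_closure (by simp)
    have h := wv_mem (l := [pt1, pt2, pt1i, pt2i]) (by
        intro P hP
        apply okA
        fin_cases hP <;> simp) (Subgroup.closure ({mk pt1, mk pt2} : Set Spor.M22)) (by
        intro P hP
        simp only [List.mem_cons, List.not_mem_nil, or_false] at hP
        rcases hP with rfl | rfl | rfl | rfl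
        · exact m1
        · exact m2
        · rw [mk_inv o1 o1i (by decide +kernel)]; exact Subgroup.inv_mem _ m1
        · rw [mk_inv o2 o2i (by decide +kernel)]; exact Subgroup.inv_mem _ m2)
    apply eq_top_of_XY
    · have h1 := (h [2, 3, 2, 3, 0, 3, 0, 1, 2, 1]).2
      rwa [show wv [pt1, pt2, pt1i, pt2i] [2, 3, 2, 3, 0, 3, 0, 1, 2, 1] = pX by decide +kernel] at h1
    · have h1 := (h [3, 0, 3, 0, 3, 2, 1, 2, 3, 0, 1, 2, 1, 0, 1]).2
      rwa [show wv [pt1, pt2, pt1i, pt2i] [3, 0, 3, 0, 3, 2, 1, 2, 3, 0, 1, 2, 1, 0, 1] = pY by decide +kernel] at h1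

/-! ### conjugacy -/

section sylow

variable {T : Type*} [Group T] [Finite T]

/-- power maps and Sylow subgroups of prime order -/
theorem pow_of_one {r k : ℕ} (hr : r.Prime) (hT : ¬ r ^ 2 ∣ Nat.card T) {z₀ u : T} (hz₀ : orderOf z₀ = r)
    (hu : u * z₀ * u⁻¹ = z₀ ^ k) {z : T} (hz : orderOf z = r) : ∃ v : T, v * z * v⁻¹ = z ^ k := by
  have : Fact r.Prime := ⟨hr⟩
  have hf : (Nat.card T).factorization r = 1 := by
    have h1 : r ∣ Nat.card T := by rw [← hz]; exact orderOf_dvd_natCard z
    have h2 : Nat.card T ≠ 0 := Nat.card_pos.ne'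
    have h3 := (hr.dvd_iff_one_le_factorization h2).1 h1
    have h4 : ¬ 2 ≤ (Nat.card T).factorization r := fun h => hT ((hr.pow_dvd_iff_le_factorization h2).2 h)
    omega
  let S : Sylow r T := Sylow.ofCard (zpowers z) (by rw [Nat.card_zpowers, hz, hf, pow_one])
  let S₀ : Sylow r T := Sylow.ofCard (zpowers z₀) (by rw [Nat.card_zpowers, hz₀, hf, pow_one])
  obtain ⟨g, hg⟩ := MulAction.exists_smul_eq T S S₀
  have h1 : g * z * g⁻¹ ∈ (g • S : Sylow r T) := by
    rw [Sylow.smul_def]
    exact ⟨z, mem_zpowers z, rfl⟩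
  rw [hg] at h1
  obtain ⟨j, hj⟩ := mem_zpowers_iff.1 (show g * z * g⁻¹ ∈ zpowers z₀ from h1)
  refine ⟨g⁻¹ * u * g, ?_⟩
  have h2 : z = g⁻¹ * z₀ ^ j * g := by rw [hj]; group
  have h3 : u * z₀ ^ j * u⁻¹ = (z₀ ^ j) ^ k := by
    rw [← conj_zpow, hu, ← zpow_natCast, ← zpow_natCast, ← zpow_mul, ← zpow_mul, mul_comm]
  calc g⁻¹ * u * g * z * (g⁻¹ * u * g)⁻¹ = g⁻¹ * (u * z₀ ^ j * u⁻¹) * g := by rw [h2]; group
    _ = g⁻¹ * (z₀ ^ j) ^ k * g := by rw [h3]
    _ = (g⁻¹ * z₀ ^ j * g) ^ k := by
      have := conj_pow (i := k) (a := g⁻¹) (b := z₀ ^ j)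
      rw [inv_inv] at this
      exact this.symm
    _ = z ^ k := by rw [← h2]

end sylow

instance : Finite Spor.M22 := Nat.finite_of_card_ne_zero (by rw [H968.TwoM22.three.card]; norm_num)

theorem card_M22 : Nat.card Spor.M22 = 443520 := H968.TwoM22.three.card

theorem three {x y : Spor.M22} (hx : orderOf x = 3) (hy : orderOf y = 3) : IsConj x y := by
  obtain ⟨s, t, g, a1, a2, a3, a4, a5, a6, a7, a8⟩ := H968.TwoM22.three.three
  exact (a6 x hx).symm.trans (a6 y hy)

theorem five {z : Spor.M22} (hz : orderOf z = 5) : ∃ u : Spor.M22, u * z * u⁻¹ = z ^ 2 := by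
  have o1 : okM p5 = true := okA (by simp)
  have o2 : okM pu5 = true := okA (by simp)
  refine pow_of_one (by norm_num) (by rw [card_M22]; norm_num) (z₀ := mk p5) (u := mk pu5) ?_ ?_ hz
  · exact order_mk (by norm_num) o1 (by decide +kernel) (i := 1) (by norm_num) (by decide +kernel)
  · rw [← mk_ppow o1]
    exact mk_conj o2 o1 (okM_ppow o1 2) (by decide +kernel)

theorem seven {z : Spor.M22} (hz : orderOf z = 7) : ∃ u : Spor.M22, u * z * u⁻¹ = z ^ 2 := by
  have o1 : okM p7 = true := okA (by simp)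
  have o2 : okM pu7 = true := okA (by simp)
  refine pow_of_one (by norm_num) (by rw [card_M22]; norm_num) (z₀ := mk p7) (u := mk pu7) ?_ ?_ hz
  · exact order_mk (by norm_num) o1 (by decide +kernel) (i := 1) (by norm_num) (by decide +kernel)
  · rw [← mk_ppow o1]
    exact mk_conj o2 o1 (okM_ppow o1 2) (by decide +kernel)

theorem eleven {z : Spor.M22} (hz : orderOf z = 11) : ∃ u : Spor.M22, u * z * u⁻¹ = z ^ 3 := by
  have o1 : okM pX = true := okA (by simp)
  have o2 : okM pu11 = true := okA (by simp)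
  refine pow_of_one (by norm_num) (by rw [card_M22]; norm_num) (z₀ := mk pX) (u := mk pu11) ?_ ?_ hz
  · exact order_mk (by norm_num) o1 (by decide +kernel) (i := 1) (by norm_num) (by decide +kernel)
  · rw [← mk_ppow o1]
    exact mk_conj o2 o1 (okM_ppow o1 3) (by decide +kernel)

end Cfsg.Agent.H921.M22.Facts
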