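import Cfsg.Agent.H565.Scott
import Cfsg.Agent.H906.WtPerm

/-!
# Dimensions of fixed spaces

`fx ρ g = dim C_V(g)`.

* `scott` : `fx g + fx h + fx (g h) ≤ dim V` if `π g`, `π h` generate the image (kernel of `π` scalar, `V` irreducible);
* `fx_norm` : `dim V = fx z + d m` if `z ^ r = 1` and `u z u⁻¹ = z ^ k`, `k` of prime order `d` modulo `r`;
* `fx_nine` : `dim V = fx a + 6` for the group `3^2` with a quaternion group acting, if `dim V < 16`;
* `fx_three` : `dim V = 3 fx x` if `x ^ 3 = 1` and `x` is conjugate to `ζ x`;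
* `sum_trace` : the sum of the traces of the powers of `z`.
-/

set_option autoImplicit false
set_option linter.unusedSectionVars false

namespace Cfsg.Agent.H921.M22.Fix

open Module Cfsg.Agent.H906.Wt

section basic

variable {L K V : Type*} [Group L] [Field K] [AddCommGroup V] [Module K V] (ρ : L →* Module.End K V)

/-- dimension of the fixed space -/
noncomputable def fx (g : L) : ℕ := finrank K (LinearMap.ker (ρ g - 1))

variable {ρ}

theorem mem_ker {X : Module.End K V} {v : V} : v ∈ LinearMap.ker (X - 1) ↔ X v = v := by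
  rw [LinearMap.mem_ker, LinearMap.sub_apply, Module.End.one_apply, sub_eq_zero]

theorem rho_inv (g : L) (v : V) : ρ g⁻¹ (ρ g v) = v := by
  rw [← Module.End.mul_apply, ← map_mul, inv_mul_cancel, map_one, Module.End.one_apply]

theorem rho_inv' (g : L) (v : V) : ρ g (ρ g⁻¹ v) = v := by
  rw [← Module.End.mul_apply, ← map_mul, mul_inv_cancel, map_one, Module.End.one_apply]

theorem fx_inv (g : L) : fx ρ g⁻¹ = fx ρ g := by
  unfold fx
  have h : LinearMap.ker (ρ g⁻¹ - 1) = LinearMap.ker (ρ g - 1) := by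
    ext v
    rw [mem_ker, mem_ker]
    constructor
    · intro h
      conv_lhs => rw [← h]
      exact rho_inv' g v
    · intro h
      conv_lhs => rw [← h]
      exact rho_inv g v
  rw [h]

/-- conjugate eigenspaces -/
theorem finrank_conj (g h : L) (c : K) :
    finrank K (LinearMap.ker (ρ (h * g * h⁻¹) - c • 1)) = finrank K (LinearMap.ker (ρ g - c • 1)) := by
  have hm : ∀ (X : Module.End K V) (v : V), v ∈ LinearMap.ker (X - c • 1) ↔ X v = c • v := by
    intro X v
    rw [LinearMap.mem_ker, LinearMap.sub_apply, LinearMap.smul_apply, Module.End.one_apply, sub_eq_zero]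
  have fwd : ∀ v ∈ LinearMap.ker (ρ g - c • 1), ρ h v ∈ LinearMap.ker (ρ (h * g * h⁻¹) - c • 1) := by
    intro v hv
    rw [hm] at hv ⊢
    rw [map_mul, map_mul, Module.End.mul_apply, Module.End.mul_apply, rho_inv, hv, map_smul]
  have bwd : ∀ v ∈ LinearMap.ker (ρ (h * g * h⁻¹) - c • 1), ρ h⁻¹ v ∈ LinearMap.ker (ρ g - c • 1) := by
    intro v hv
    rw [hm] at hv ⊢
    rw [map_mul, map_mul, Module.End.mul_apply, Module.End.mul_apply] at hv
    rw [← rho_inv (ρ := ρ) h (ρ g (ρ h⁻¹ v)), hv, map_smul]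
  exact (LinearEquiv.finrank_eq
    { toFun := fun v => ⟨ρ h v.1, fwd v.1 v.2⟩
      map_add' := fun v w => Subtype.ext (map_add _ _ _)
      map_smul' := fun c v => Subtype.ext (map_smul _ _ _)
      invFun := fun v => ⟨ρ h⁻¹ v.1, bwd v.1 v.2⟩
      left_inv := fun v => Subtype.ext (rho_inv h _)
      right_inv := fun v => Subtype.ext (rho_inv' h _) }).symm

theorem fx_conj (g h : L) : fx ρ (h * g * h⁻¹) = fx ρ g := by
  have := finrank_conj (ρ := ρ) g h 1
  rw [one_smul] at this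
  exact this

theorem fx_isConj {g h : L} (hc : IsConj g h) : fx ρ g = fx ρ h := by
  obtain ⟨c, rfl⟩ := isConj_iff.1 hc
  exact (fx_conj g c).symm

theorem fx_le [FiniteDimensional K V] (g : L) : fx ρ g ≤ finrank K V := Submodule.finrank_le _

theorem fx_eq_iff [FiniteDimensional K V] (g : L) : fx ρ g = finrank K V ↔ ρ g = 1 := by
  constructor
  · intro h
    have h1 := Submodule.eq_top_of_finrank_eq h
    apply LinearMap.ext
    intro v
    have h2 : v ∈ LinearMap.ker (ρ g - 1) := by rw [h1]; trivial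
    rw [mem_ker] at h2
    rw [h2, Module.End.one_apply]
  · intro h
    unfold fx
    rw [h, sub_self, LinearMap.ker_zero, finrank_top]

end basic

section scott

variable {L K V T : Type*} [Group L] [Group T] [Field K] [AddCommGroup V] [Module K V]

/-- an irreducible representation with a quotient of the group, scalar kernel -/
structure Dat (ρ : L →* Module.End K V) (π : L →* T) : Prop where
  surj : Function.Surjective π
  scal : ∀ x ∈ π.ker, ∃ c : K, ρ x = c • 1
  irr : ∀ U : Submodule K V, (∀ g, ∀ v ∈ U, ρ g v ∈ U) → U = ⊥ ∨ U = ⊤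
  two : 2 ≤ finrank K V

variable {ρ : L →* Module.End K V} {π : L →* T}

theorem eq_top_of_gen (_hs : Function.Surjective π) {g h : L} (hgen : Subgroup.closure ({π g, π h} : Set T) = ⊤)
    (M : Subgroup L) (hk : π.ker ≤ M) (hg : g ∈ M) (hh : h ∈ M) : ∀ x, x ∈ M := by
  have h1 : M.map π = ⊤ := by
    rw [eq_top_iff, ← hgen, Subgroup.closure_le]
    rintro y (rfl | rfl)
    · exact ⟨g, hg, rfl⟩
    · exact ⟨h, hh, rfl⟩
  intro x
  have h2 : π x ∈ M.map π := by rw [h1]; trivial
  obtain ⟨y, hy, hyx⟩ := h2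
  have h3 : y⁻¹ * x ∈ π.ker := by rw [MonoidHom.mem_ker, map_mul, map_inv, hyx, inv_mul_cancel]
  have h4 := M.mul_mem hy (hk h3)
  rwa [mul_inv_cancel_left] at h4

theorem ne_zero_of_rho {g : L} {c : K} {v : V} (hv : v ≠ 0) (h : ρ g v = c • v) : c ≠ 0 := by
  rintro rfl
  rw [zero_smul] at h
  apply hv
  rw [← rho_inv (ρ := ρ) g v, h, map_zero]

/-- the stabiliser of a line -/
def lineStab (ρ : L →* Module.End K V) (v : V) (hv : v ≠ 0) : Subgroup L where
  carrier := {x | ∃ c : K, ρ x v = c • v}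
  one_mem' := ⟨1, by rw [map_one, one_smul, Module.End.one_apply]⟩
  mul_mem' := by
    rintro x y ⟨c, hc⟩ ⟨d, hd⟩
    exact ⟨c * d, by rw [map_mul, Module.End.mul_apply, hd, map_smul, hc, smul_smul, mul_comm]⟩
  inv_mem' := by
    rintro x ⟨c, hc⟩
    have hc0 := ne_zero_of_rho hv hc
    refine ⟨c⁻¹, ?_⟩
    have h1 : ρ x⁻¹ (ρ x v) = c • ρ x⁻¹ v := by rw [hc, map_smul]
    rw [rho_inv] at h1
    rw [show c⁻¹ • v = c⁻¹ • (c • ρ x⁻¹ v) from by rw [← h1], smul_smul, inv_mul_cancel₀ hc0, one_smul]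

/-- elements which are scalar modulo a submodule -/
def scalStab (ρ : L →* Module.End K V) (S : Submodule K V) (hS : S ≠ ⊤) : Subgroup L where
  carrier := {x | ∃ c : K, ∀ v, ρ x v - c • v ∈ S}
  one_mem' := ⟨1, fun v => by rw [map_one, one_smul, Module.End.one_apply, sub_self]; exact S.zero_mem⟩
  mul_mem' := by
    rintro x y ⟨c, hc⟩ ⟨d, hd⟩
    refine ⟨c * d, fun v => ?_⟩
    have h1 : ρ (x * y) v - (c * d) • v = (ρ x (ρ y v) - c • ρ y v) + c • (ρ y v - d • v) := by
      rw [map_mul, Module.End.mul_apply, smul_sub, smul_smul]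
      abel
    rw [h1]
    exact S.add_mem (hc _) (S.smul_mem _ (hd _))
  inv_mem' := by
    rintro x ⟨c, hc⟩
    have hc0 : c ≠ 0 := by
      rintro rfl
      apply hS
      rw [eq_top_iff]
      intro v _
      have := hc (ρ x⁻¹ v)
      rwa [rho_inv', zero_smul, sub_zero] at this
    refine ⟨c⁻¹, fun v => ?_⟩
    have h1 := hc (ρ x⁻¹ v)
    rw [rho_inv'] at h1
    have h2 : ρ x⁻¹ v - c⁻¹ • v = (-c⁻¹) • (v - c • ρ x⁻¹ v) := by
      rw [smul_sub, smul_smul, neg_mul, inv_mul_cancel₀ hc0, neg_smul, neg_smul, one_smul]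
      abel
    rw [h2]
    exact S.smul_mem _ h1

variable [FiniteDimensional K V]

theorem finrank_range (X : Module.End K V) :
    finrank K (X - 1).range + finrank K (LinearMap.ker (X - 1)) = finrank K V :=
  LinearMap.finrank_range_add_finrank_ker _

/-- **Scott's lemma.** -/
theorem Dat.scott (D : Dat ρ π) {g h : L} (hgen : Subgroup.closure ({π g, π h} : Set T) = ⊤) :
    fx ρ g + fx ρ h + fx ρ (g * h) ≤ finrank K V := by
  have hXYZ : ρ g * ρ h * ρ (g * h)⁻¹ = 1 := by rw [← map_mul, ← map_mul, mul_inv_cancel, map_one]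
  have key := H565.Scott.scott hXYZ (⊥ : Submodule K V) ⊤ (by
    intro v hg hh
    by_contra hv
    have hv0 : v ≠ 0 := fun h0 => hv (by rw [h0]; exact Submodule.zero_mem _)
    have h1 := eq_top_of_gen D.surj hgen (lineStab ρ v hv0) (by
      intro x hx
      obtain ⟨c, hc⟩ := D.scal x hx
      exact ⟨c, by rw [hc, LinearMap.smul_apply, Module.End.one_apply]⟩) ⟨1, by rw [one_smul, hg]⟩
      ⟨1, by rw [one_smul, hh]⟩
    rcases D.irr (Submodule.span K {v}) (by
      intro x w hw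
      obtain ⟨a, rfl⟩ := Submodule.mem_span_singleton.1 hw
      obtain ⟨c, hc⟩ := h1 x
      rw [map_smul, hc, smul_smul]
      exact Submodule.smul_mem _ _ (Submodule.mem_span_singleton_self v)) with h2 | h2
    · exact hv0 (Submodule.span_singleton_eq_bot.1 h2)
    · have h3 := finrank_span_singleton (K := K) hv0
      rw [h2, finrank_top] at h3
      have := D.two
      omega) (by
    intro S hg hh
    by_contra hS
    have hS' : S ≠ ⊤ := fun h => hS (h ▸ le_rfl)
    have h1 := eq_top_of_gen D.surj hgen (scalStab ρ S hS') (by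
      intro x hx
      obtain ⟨c, hc⟩ := D.scal x hx
      exact ⟨c, fun v => by rw [hc, LinearMap.smul_apply, Module.End.one_apply, sub_self]; exact S.zero_mem⟩)
      ⟨1, fun v => by rw [one_smul]; exact hg v⟩ ⟨1, fun v => by rw [one_smul]; exact hh v⟩
    rcases D.irr S (by
      intro x w hw
      obtain ⟨c, hc⟩ := h1 x
      have h2 : ρ x w = (ρ x w - c • w) + c • w := by abel
      rw [h2]
      exact S.add_mem (hc w) (S.smul_mem _ hw)) with h2 | h2
    · have : Nontrivial V := by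
        rw [← Module.finrank_pos_iff (R := K)]
        have := D.two
        omega
      obtain ⟨v, hv⟩ := exists_ne (0 : V)
      rcases D.irr (Submodule.span K {v}) (by
        intro x w hw
        obtain ⟨a, rfl⟩ := Submodule.mem_span_singleton.1 hw
        obtain ⟨c, hc⟩ := h1 x
        have h3 := hc v
        rw [h2, Submodule.mem_bot, sub_eq_zero] at h3
        rw [map_smul, h3, smul_smul]
        exact Submodule.smul_mem _ _ (Submodule.mem_span_singleton_self v)) with h4 | h4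
      · exact hv (Submodule.span_singleton_eq_bot.1 h4)
      · have h3 := finrank_span_singleton (K := K) hv
        rw [h4, finrank_top] at h3
        have := D.two
        omega
    · exact hS' h2)
  rw [finrank_top, finrank_bot] at key
  have h1 := finrank_range (ρ g)
  have h2 := finrank_range (ρ h)
  have h3 := finrank_range (ρ (g * h)⁻¹)
  have h4 := fx_inv (ρ := ρ) (g * h)
  unfold fx at *
  omega

end scott

section norm

variable {L K V : Type*} [Group L] [Field K] [AddCommGroup V] [Module K V] [FiniteDimensional K V]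
  {ρ : L →* Module.End K V}

theorem pow_mod {z : L} {r : ℕ} (hz : z ^ r = 1) {i j : ℕ} (h : i ≡ j [MOD r]) : z ^ i = z ^ j :=
  pow_eq_pow_iff_modEq.2 (h.of_dvd (orderOf_dvd_of_pow_eq_one hz))

theorem conj_iter {z u : L} {k : ℕ} (hu : u * z * u⁻¹ = z ^ k) (n : ℕ) : u ^ n * z * (u ^ n)⁻¹ = z ^ k ^ n := by
  induction n with
  | zero => simp
  | succ n ih =>
    calc u ^ (n + 1) * z * (u ^ (n + 1))⁻¹ = u * (u ^ n * z * (u ^ n)⁻¹) * u⁻¹ := by rw [pow_succ']; group
      _ = (u * z * u⁻¹) ^ k ^ n := by rw [ih, conj_pow]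
      _ = z ^ k ^ (n + 1) := by rw [hu, ← pow_mul, pow_succ']

/-- **The dimension modulo the order of the automiser.** -/
theorem fx_norm [IsAlgClosed K] {z u : L} {r d k : ℕ} (hr : r.Prime) (hrK : (r : K) ≠ 0) (hd : d.Prime)
    (hz : z ^ r = 1) (hu : u * z * u⁻¹ = z ^ k) (hk : k ^ d ≡ 1 [MOD r]) {s : ℕ} (hs : k * s ≡ s + 1 [MOD r]) :
    ∃ m, finrank K V = fx ρ z + d * m := by
  have hA : ∀ a : L, a ∈ Subgroup.zpowers z ↔ ∃ i : ℕ, z ^ i = a := by
    intro a
    rw [Subgroup.mem_zpowers_iff]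
    constructor
    · rintro ⟨i, rfl⟩
      have hr0 : (r : ℤ) ≠ 0 := by exact_mod_cast hr.ne_zero
      refine ⟨(i % (r : ℤ)).toNat, ?_⟩
      have h1 : ((i % (r : ℤ)).toNat : ℤ) = i % (r : ℤ) := Int.toNat_of_nonneg (Int.emod_nonneg _ hr0)
      rw [← zpow_natCast, h1]
      conv_rhs => rw [← Int.emod_add_mul_ediv i r, zpow_add, zpow_mul, zpow_natCast, hz, one_zpow, mul_one]
    · rintro ⟨i, rfl⟩
      exact ⟨i, zpow_natCast _ _⟩
  have hui : ∀ i : ℕ, u * z ^ i * u⁻¹ = z ^ (k * i) := by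
    intro i
    rw [← conj_pow, hu, ← pow_mul]
  have hud : u ^ d * z * (u ^ d)⁻¹ = z := by
    rw [conj_iter hu, pow_mod hz hk, pow_one]
  have hd1 : d - 1 + 1 = d := by have := hd.pos; omega
  have hui' : ∀ i : ℕ, u⁻¹ * z ^ i * u = z ^ (k ^ (d - 1) * i) := by
    intro i
    have h1 : u * z ^ (k ^ (d - 1) * i) * u⁻¹ = z ^ i := by
      rw [hui, ← mul_assoc, ← pow_succ', hd1]
      apply pow_mod hz
      have := hk.mul_right i
      rwa [one_mul] at this
    rw [← h1]
    group
  have hN : Nor (Subgroup.zpowers z) u := by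
    intro a
    rw [hA, hA]
    constructor
    · rintro ⟨i, rfl⟩
      exact ⟨k * i, (hui i).symm⟩
    · rintro ⟨i, hi⟩
      refine ⟨k ^ (d - 1) * i, ?_⟩
      rw [← hui' i, hi]
      group
  have hfin : Finite (Subgroup.zpowers z) := by
    apply Nat.finite_of_card_ne_zero
    rw [Nat.card_zpowers]
    exact (orderOf_pos_iff.2 (isOfFinOrder_iff_pow_eq_one.2 ⟨r, hr.pos, hz⟩)).ne'
  have hcard : (Nat.card (Subgroup.zpowers z) : K) ≠ 0 := by
    rw [Nat.card_zpowers]
    rcases (Nat.dvd_prime hr).1 (orderOf_dvd_of_pow_eq_one hz) with h | h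
    · rw [h, Nat.cast_one]; exact one_ne_zero
    · rw [h]; exact hrK
  obtain ⟨χ₀, h1, h2, m, hm⟩ := exists_fixed ρ (A := Subgroup.zpowers z) (by
      intro a ha b hb
      obtain ⟨i, rfl⟩ := (hA a).1 ha
      obtain ⟨j, rfl⟩ := (hA b).1 hb
      rw [← pow_add, ← pow_add, add_comm]) hcard (Z := ⊥) (by
      intro x hx
      rw [Subgroup.mem_bot] at hx
      exact ⟨1, by rw [hx, map_one, one_smul]⟩) hN (by
      intro a ha
      obtain ⟨i, rfl⟩ := (hA a).1 ha
      refine ⟨1, Subgroup.mem_bot.2 rfl, z ^ (s * i), (hA _).2 ⟨_, rfl⟩, ?_⟩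
      rw [hui, one_mul, eq_mul_inv_iff_mul_eq, ← pow_add]
      apply pow_mod hz
      have := (hs.mul_right i).symm
      rw [show (s + 1) * i = i + s * i by ring] at this
      rwa [mul_assoc] at this) hd (by
      intro a ha
      obtain ⟨i, rfl⟩ := (hA a).1 ha
      have h3 : u ^ d * z ^ i * (u ^ d)⁻¹ = z ^ i := by rw [← conj_pow, hud]
      rw [← mul_inv_eq_iff_eq_mul, h3])
  have hχ : χ₀ = 1 := by
    rw [sg_eq_self] at h1
    have hzA : z ∈ Subgroup.zpowers z := Subgroup.mem_zpowers z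
    set ζ : Kˣ := χ₀ ⟨z, hzA⟩ with hζ
    have hζr : ζ ^ r = 1 := by
      rw [hζ, ← map_pow]
      have : (⟨z, hzA⟩ : Subgroup.zpowers z) ^ r = 1 := Subtype.ext hz
      rw [this, map_one]
    have h4 := h1 ⟨z, hzA⟩
    have h5 : (⟨u * z * u⁻¹, (hN z).1 hzA⟩ : Subgroup.zpowers z) = ⟨z, hzA⟩ ^ k := Subtype.ext hu
    rw [h5, map_pow, ← hζ] at h4
    have h6 : ζ = 1 := by
      have h7 : ζ ^ (k * s) = ζ ^ (s + 1) := by
        have h8 : orderOf ζ ∣ r := orderOf_dvd_of_pow_eq_one hζr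
        exact pow_eq_pow_iff_modEq.2 (hs.of_dvd h8)
      rw [pow_mul, h4, pow_succ] at h7
      exact (left_eq_mul.1 h7)
    ext a
    obtain ⟨i, hi⟩ := (hA a.1).1 a.2
    have h7 : a = ⟨z, hzA⟩ ^ i := Subtype.ext hi.symm
    rw [h7, map_pow, ← hζ, h6, one_pow]
    rfl
  refine ⟨m, ?_⟩
  rw [hm]
  congr 1
  unfold fx
  have h3 : W (rs ρ (Subgroup.zpowers z)) χ₀ = LinearMap.ker (ρ z - 1) := by
    ext v
    rw [mem_W, mem_ker, hχ]
    constructor
    · intro h
      have := h ⟨z, Subgroup.mem_zpowers z⟩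
      rw [MonoidHom.one_apply, Units.val_one, one_smul] at this
      exact this
    · intro h a
      obtain ⟨i, hi⟩ := (hA a.1).1 a.2
      rw [MonoidHom.one_apply, Units.val_one, one_smul]
      change ρ a.1 v = v
      rw [← hi]
      have key : ∀ i : ℕ, ρ (z ^ i) v = v := by
        intro i
        induction i with
        | zero => rw [pow_zero, map_one, Module.End.one_apply]
        | succ i ih => rw [pow_succ, map_mul, Module.End.mul_apply, h, ih]
      exact key i
  rw [h3]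

end norm

section split

variable {K V : Type*} [Field K] [AddCommGroup V] [Module K V] [FiniteDimensional K V]

/-- eigenspace in a submodule -/
def ei (U : Submodule K V) (X : Module.End K V) (c : K) : Submodule K V := U ⊓ LinearMap.ker (X - c • 1)

theorem mem_ei {U : Submodule K V} {X : Module.End K V} {c : K} {v : V} : v ∈ ei U X c ↔ v ∈ U ∧ X v = c • v := by
  unfold ei
  rw [Submodule.mem_inf, LinearMap.mem_ker, LinearMap.sub_apply, LinearMap.smul_apply, Module.End.one_apply,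
    sub_eq_zero]

/-- **Splitting under an element of order three.** -/
theorem split3 {U : Submodule K V} {X : Module.End K V} (hU : ∀ v ∈ U, X v ∈ U) (hX : ∀ v, X (X (X v)) = v) {ω : K}
    (hω : ω ^ 2 + ω + 1 = 0) (h3 : (3 : K) ≠ 0) :
    finrank K U = finrank K (ei U X 1) + finrank K (ei U X ω) + finrank K (ei U X (ω ^ 2)) := by
  have hω3 : ω ^ 3 = 1 := by linear_combination (ω - 1) * hω
  have h33 : (3 : K)⁻¹ * 3 = 1 := inv_mul_cancel₀ h3
  have pm : ∀ v ∈ U, v + X v + X (X v) ∈ U ∧ v + ω ^ 2 • X v + ω • X (X v) ∈ U ∧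
      v + ω • X v + ω ^ 2 • X (X v) ∈ U := fun v hv =>
    ⟨U.add_mem (U.add_mem hv (hU v hv)) (hU _ (hU v hv)),
      U.add_mem (U.add_mem hv (U.smul_mem _ (hU v hv))) (U.smul_mem _ (hU _ (hU v hv))),
      U.add_mem (U.add_mem hv (U.smul_mem _ (hU v hv))) (U.smul_mem _ (hU _ (hU v hv)))⟩
  have m1 : ∀ v ∈ U, (3 : K)⁻¹ • (v + X v + X (X v)) ∈ ei U X 1 := by
    intro v hv
    refine mem_ei.2 ⟨U.smul_mem _ (pm v hv).1, ?_⟩
    rw [map_smul, map_add, map_add, hX, one_smul]
    congr 1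
    abel
  have m2 : ∀ v ∈ U, (3 : K)⁻¹ • (v + ω ^ 2 • X v + ω • X (X v)) ∈ ei U X ω := by
    intro v hv
    refine mem_ei.2 ⟨U.smul_mem _ (pm v hv).2.1, ?_⟩
    rw [map_smul, map_add, map_add, map_smul, map_smul, hX, smul_comm ω]
    congr 1
    rw [smul_add, smul_add, smul_smul, smul_smul, ← pow_succ', hω3, one_smul, ← pow_two]
    abel
  have m3 : ∀ v ∈ U, (3 : K)⁻¹ • (v + ω • X v + ω ^ 2 • X (X v)) ∈ ei U X (ω ^ 2) := by
    intro v hv
    refine mem_ei.2 ⟨U.smul_mem _ (pm v hv).2.2, ?_⟩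
    rw [map_smul, map_add, map_add, map_smul, map_smul, hX, smul_comm (ω ^ 2)]
    congr 1
    rw [smul_add, smul_add, smul_smul, smul_smul, ← pow_succ, hω3, one_smul, ← pow_add,
      show ω ^ (2 + 2) = ω from by linear_combination ω * hω3]
    abel
  let f : U ≃ₗ[K] (ei U X 1 × ei U X ω) × ei U X (ω ^ 2) :=
    { toFun := fun v => ((⟨_, m1 v.1 v.2⟩, ⟨_, m2 v.1 v.2⟩), ⟨_, m3 v.1 v.2⟩)
      map_add' := by
        intro v w
        refine Prod.ext (Prod.ext (Subtype.ext ?_) (Subtype.ext ?_)) (Subtype.ext ?_) <;>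
          simp only [Submodule.coe_add, map_add, smul_add, Prod.fst_add, Prod.snd_add] <;> abel
      map_smul' := by
        intro c v
        refine Prod.ext (Prod.ext (Subtype.ext ?_) (Subtype.ext ?_)) (Subtype.ext ?_) <;>
          simp only [Submodule.coe_smul, map_smul, smul_add, Prod.smul_fst, Prod.smul_snd, RingHom.id_apply,
            smul_comm c]
      invFun := fun p => ⟨p.1.1.1 + p.1.2.1 + p.2.1,
        U.add_mem (U.add_mem (mem_ei.1 p.1.1.2).1 (mem_ei.1 p.1.2.2).1) (mem_ei.1 p.2.2).1⟩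
      left_inv := by
        intro v
        apply Subtype.ext
        change (3 : K)⁻¹ • (v.1 + X v.1 + X (X v.1)) + (3 : K)⁻¹ • (v.1 + ω ^ 2 • X v.1 + ω • X (X v.1)) +
          (3 : K)⁻¹ • (v.1 + ω • X v.1 + ω ^ 2 • X (X v.1)) = v.1
        have e : (3 : K)⁻¹ • (v.1 + X v.1 + X (X v.1)) + (3 : K)⁻¹ • (v.1 + ω ^ 2 • X v.1 + ω • X (X v.1)) +
          (3 : K)⁻¹ • (v.1 + ω • X v.1 + ω ^ 2 • X (X v.1)) = ((3 : K)⁻¹ * 3) • v.1 +
            ((3 : K)⁻¹ * (ω ^ 2 + ω + 1)) • X v.1 + ((3 : K)⁻¹ * (ω ^ 2 + ω + 1)) • X (X v.1) := by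
          module
        rw [e, hω, h33, mul_zero, zero_smul, zero_smul, one_smul, add_zero, add_zero]
      right_inv := by
        rintro ⟨⟨x, y⟩, z⟩
        have hx := (mem_ei.1 x.2).2
        have hy := (mem_ei.1 y.2).2
        have hz := (mem_ei.1 z.2).2
        rw [one_smul] at hx
        have e1 : X (x.1 + y.1 + z.1) = x.1 + ω • y.1 + ω ^ 2 • z.1 := by rw [map_add, map_add, hx, hy, hz]
        have e2 : X (X (x.1 + y.1 + z.1)) = x.1 + ω ^ 2 • y.1 + ω • z.1 := by
          rw [e1, map_add, map_add, map_smul, map_smul, hx, hy, hz, smul_smul, smul_smul, ← pow_two, ← pow_add,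
            show ω ^ (2 + 2) = ω from by linear_combination ω * hω3]
        refine Prod.ext (Prod.ext (Subtype.ext ?_) (Subtype.ext ?_)) (Subtype.ext ?_)
        · change (3 : K)⁻¹ • ((x.1 + y.1 + z.1) + X (x.1 + y.1 + z.1) + X (X (x.1 + y.1 + z.1))) = x.1
          rw [e2, e1]
          have e : (3 : K)⁻¹ • ((x.1 + y.1 + z.1) + (x.1 + ω • y.1 + ω ^ 2 • z.1) + (x.1 + ω ^ 2 • y.1 + ω • z.1)) =
            ((3 : K)⁻¹ * 3) • x.1 + ((3 : K)⁻¹ * (ω ^ 2 + ω + 1)) • y.1 + ((3 : K)⁻¹ * (ω ^ 2 + ω + 1)) • z.1 := by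
            module
          rw [e, hω, h33, mul_zero, zero_smul, zero_smul, one_smul, add_zero, add_zero]
        · change (3 : K)⁻¹ • ((x.1 + y.1 + z.1) + ω ^ 2 • X (x.1 + y.1 + z.1) + ω • X (X (x.1 + y.1 + z.1))) = y.1
          rw [e2, e1]
          have e : (3 : K)⁻¹ • ((x.1 + y.1 + z.1) + ω ^ 2 • (x.1 + ω • y.1 + ω ^ 2 • z.1) +
              ω • (x.1 + ω ^ 2 • y.1 + ω • z.1)) =
            ((3 : K)⁻¹ * (ω ^ 2 + ω + 1)) • x.1 + ((3 : K)⁻¹ * (1 + 2 * ω ^ 3)) • y.1 +
              ((3 : K)⁻¹ * (1 + ω ^ 3 * ω + ω ^ 2)) • z.1 := by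
            module
          rw [e, hω3, one_mul, show (1 + ω + ω ^ 2 : K) = ω ^ 2 + ω + 1 by ring, hω,
            show (1 + 2 * 1 : K) = 3 by norm_num, h33, mul_zero, zero_smul, zero_smul, one_smul, add_zero, zero_add]
        · change (3 : K)⁻¹ • ((x.1 + y.1 + z.1) + ω • X (x.1 + y.1 + z.1) + ω ^ 2 • X (X (x.1 + y.1 + z.1))) = z.1
          rw [e2, e1]
          have e : (3 : K)⁻¹ • ((x.1 + y.1 + z.1) + ω • (x.1 + ω • y.1 + ω ^ 2 • z.1) +
              ω ^ 2 • (x.1 + ω ^ 2 • y.1 + ω • z.1)) =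
            ((3 : K)⁻¹ * (ω ^ 2 + ω + 1)) • x.1 + ((3 : K)⁻¹ * (1 + ω ^ 2 + ω ^ 3 * ω)) • y.1 +
              ((3 : K)⁻¹ * (1 + 2 * ω ^ 3)) • z.1 := by
            module
          rw [e, hω3, one_mul, show (1 + ω ^ 2 + ω : K) = ω ^ 2 + ω + 1 by ring, hω,
            show (1 + 2 * 1 : K) = 3 by norm_num, h33, mul_zero, zero_smul, zero_smul, one_smul, add_zero, zero_add] }
  rw [f.finrank_eq, finrank_prod, finrank_prod]

end split

section nine

variable {L K V : Type*} [Group L] [Field K] [AddCommGroup V] [Module K V] [FiniteDimensional K V]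
  {ρ : L →* Module.End K V}

/-- **Elements of order three conjugate to their products with a scalar.** -/
theorem fx_three {x b ζ : L} (hx : x ^ 3 = 1) {c : K} (hc : c ^ 2 + c + 1 = 0) (h3 : (3 : K) ≠ 0) (hζ : ρ ζ = c • 1)
    (hb : b * x * b⁻¹ = ζ * x) : finrank K V = 3 * fx ρ x := by
  have hc3 : c ^ 3 = 1 := by linear_combination (c - 1) * hc
  have hX : ∀ v, ρ x (ρ x (ρ x v)) = v := by
    intro v
    rw [← Module.End.mul_apply, ← Module.End.mul_apply, ← map_mul, ← map_mul, ← pow_two, ← pow_succ, hx, map_one,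
      Module.End.one_apply]
  have h1 := split3 (U := (⊤ : Submodule K V)) (fun v _ => trivial) hX hc h3
  have e1 : ∀ d : K, finrank K (ei (⊤ : Submodule K V) (ρ x) d) = finrank K (LinearMap.ker (ρ x - d • 1)) := by
    intro d
    unfold ei
    rw [top_inf_eq]
  have hm : ∀ (X : Module.End K V) (d : K) (v : V), v ∈ LinearMap.ker (X - d • 1) ↔ X v = d • v := by
    intro X d v
    rw [LinearMap.mem_ker, LinearMap.sub_apply, LinearMap.smul_apply, Module.End.one_apply, sub_eq_zero]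
  have e2 : ∀ d : K, finrank K (LinearMap.ker (ρ x - (c ^ 2 * d) • (1 : Module.End K V))) =
      finrank K (LinearMap.ker (ρ x - d • (1 : Module.End K V))) := by
    intro d
    rw [← finrank_conj (ρ := ρ) x b d, hb]
    have h2 : LinearMap.ker (ρ (ζ * x) - d • (1 : Module.End K V)) =
        LinearMap.ker (ρ x - (c ^ 2 * d) • (1 : Module.End K V)) := by
      ext v
      rw [hm, hm, map_mul, hζ, Module.End.mul_apply, LinearMap.smul_apply, Module.End.one_apply]
      constructor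
      · intro h
        have h4 := congrArg (fun w => c ^ 2 • w) h
        simp only [smul_smul] at h4
        rw [← h4, ← pow_succ, hc3, one_smul]
      · intro h
        rw [h, smul_smul, ← mul_assoc, ← pow_succ', hc3, one_mul]
    rw [h2]
  have e3 := e2 1
  have e4 := e2 (c ^ 2)
  rw [show c ^ 2 * 1 = c ^ 2 by ring] at e3
  rw [show c ^ 2 * c ^ 2 = c by linear_combination c * hc3] at e4
  have e5 : finrank K (LinearMap.ker (ρ x - (1 : K) • (1 : Module.End K V))) = fx ρ x := by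
    unfold fx
    rw [one_smul]
  rw [finrank_top, e1, e1, e1] at h1
  omega

/-- the joint eigenspaces -/
def je (ρ : L →* Module.End K V) (a b : L) (c d : K) : Submodule K V := ei (ei ⊤ (ρ a) c) (ρ b) d

theorem mem_je {a b : L} {c d : K} {v : V} : v ∈ je ρ a b c d ↔ ρ a v = c • v ∧ ρ b v = d • v := by
  unfold je
  rw [mem_ei, mem_ei]
  simp

theorem je_conj {a b a' b' g : L} {c d c' d' : K} (h : ∀ v, v ∈ je ρ a b c d → ρ g v ∈ je ρ a' b' c' d')
    (h' : ∀ v, v ∈ je ρ a' b' c' d' → ρ g⁻¹ v ∈ je ρ a b c d) :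
    finrank K (je ρ a b c d) = finrank K (je ρ a' b' c' d') :=
  LinearEquiv.finrank_eq
    { toFun := fun v => ⟨ρ g v.1, h v.1 v.2⟩
      map_add' := fun v w => Subtype.ext (map_add _ _ _)
      map_smul' := fun c v => Subtype.ext (map_smul _ _ _)
      invFun := fun v => ⟨ρ g⁻¹ v.1, h' v.1 v.2⟩
      left_inv := fun v => Subtype.ext (rho_inv g _)
      right_inv := fun v => Subtype.ext (rho_inv' g _) }

theorem je_move {a b g : L} {a' b' : L} (h1 : g * a * g⁻¹ = a') (h2 : g * b * g⁻¹ = b') (c d : K) :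
    finrank K (je ρ a b c d) = finrank K (je ρ a' b' c d) := by
  subst h1 h2
  apply je_conj (g := g)
  · intro v hv
    rw [mem_je] at hv ⊢
    constructor
    · rw [map_mul, map_mul, Module.End.mul_apply, Module.End.mul_apply, rho_inv, hv.1, map_smul]
    · rw [map_mul, map_mul, Module.End.mul_apply, Module.End.mul_apply, rho_inv, hv.2, map_smul]
  · intro v hv
    rw [mem_je] at hv ⊢
    obtain ⟨hv1, hv2⟩ := hv
    rw [map_mul, map_mul, Module.End.mul_apply, Module.End.mul_apply] at hv1 hv2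
    exact ⟨by rw [← rho_inv (ρ := ρ) g (ρ a (ρ g⁻¹ v)), hv1, map_smul],
      by rw [← rho_inv (ρ := ρ) g (ρ b (ρ g⁻¹ v)), hv2, map_smul]⟩

/-- their dimension -/
noncomputable def jm (ρ : L →* Module.End K V) (a b : L) (c d : K) : ℕ := finrank K (je ρ a b c d)

/-- **The group `3 ^ 2` with a quaternion group.** -/
theorem fx_nine {a b q₁ q₂ : L} (ha : a ^ 3 = 1) (hb : b ^ 3 = 1) (hab : a * b = b * a)
    (h1 : q₁ * a * q₁⁻¹ = b) (h2 : q₁ * b * q₁⁻¹ = a ^ 2) (h3 : q₂ * a * q₂⁻¹ = a * b)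
    (h4 : q₂ * b * q₂⁻¹ = a * b ^ 2) {ω : K} (hω : ω ^ 2 + ω + 1 = 0) (hK : (3 : K) ≠ 0) (hn : finrank K V < 16)
    (ha1 : ρ a ≠ 1) : finrank K V = fx ρ a + 6 ∧ 8 ≤ finrank K V := by
  have hω3 : ω ^ 3 = 1 := by linear_combination (ω - 1) * hω
  have cube : ∀ {x : L}, x ^ 3 = 1 → ∀ v, ρ x (ρ x (ρ x v)) = v := by
    intro x hx v
    rw [← Module.End.mul_apply, ← Module.End.mul_apply, ← map_mul, ← map_mul, ← pow_two, ← pow_succ, hx, map_one,
      Module.End.one_apply]
  have e0 := split3 (U := (⊤ : Submodule K V)) (fun v _ => trivial) (cube ha) hω hK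
  have inv : ∀ c : K, ∀ v ∈ ei (⊤ : Submodule K V) (ρ a) c, ρ b v ∈ ei (⊤ : Submodule K V) (ρ a) c := by
    intro c v hv
    rw [mem_ei] at hv ⊢
    refine ⟨trivial, ?_⟩
    rw [← Module.End.mul_apply, ← map_mul, hab, map_mul, Module.End.mul_apply, hv.2, map_smul]
  have e1 := split3 (inv 1) (cube hb) hω hK
  have e2 := split3 (inv ω) (cube hb) hω hK
  have e3 := split3 (inv (ω ^ 2)) (cube hb) hω hK
  -- the two moves
  have m1 : ∀ c d : K, c ^ 3 = 1 → d ^ 3 = 1 → finrank K (je ρ a b c d) = finrank K (je ρ a b (d ^ 2) c) := by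
    intro c d hc hd
    rw [je_move h1 h2 c d]
    have : je ρ b (a ^ 2) c d = je ρ a b (d ^ 2) c := by
      ext v
      rw [mem_je, mem_je]
      have haa : ∀ w, ρ (a ^ 2) w = ρ a (ρ a w) := fun w => by rw [pow_two, map_mul, Module.End.mul_apply]
      constructor
      · rintro ⟨k1, k2⟩
        refine ⟨?_, k1⟩
        rw [haa] at k2
        have k3 := congrArg (ρ a) k2
        rw [cube ha, map_smul] at k3
        have k4 := congrArg (fun w => d ^ 2 • w) k3
        simp only [smul_smul] at k4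
        rw [← pow_succ, hd, one_smul] at k4
        exact k4.symm
      · rintro ⟨k1, k2⟩
        refine ⟨k2, ?_⟩
        rw [haa, k1, map_smul, k1, smul_smul, ← pow_add, show d ^ (2 + 2) = d by linear_combination d * hd]
    rw [this]
  have m2 : ∀ c d : K, c ^ 3 = 1 → d ^ 3 = 1 →
      finrank K (je ρ a b c d) = finrank K (je ρ a b (c ^ 2 * d ^ 2) (c ^ 2 * d)) := by
    intro c d hc hd
    rw [je_move h3 h4 c d]
    have : je ρ (a * b) (a * b ^ 2) c d = je ρ a b (c ^ 2 * d ^ 2) (c ^ 2 * d) := by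
      ext v
      rw [mem_je, mem_je]
      have f1 : ∀ w, ρ (a * b) w = ρ a (ρ b w) := fun w => by rw [map_mul, Module.End.mul_apply]
      have f2 : ∀ w, ρ (a * b ^ 2) w = ρ a (ρ b (ρ b w)) := fun w => by
        rw [pow_two, map_mul, map_mul, Module.End.mul_apply, Module.End.mul_apply]
      have hc2 : ∀ w : V, c ^ 2 • c • w = w := fun w => by rw [smul_smul, ← pow_succ, hc, one_smul]
      constructor
      · rintro ⟨k1, k2⟩
        rw [f1] at k1
        rw [f2] at k2
        have hcm : ∀ w, ρ b (ρ a w) = ρ a (ρ b w) := fun w => by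
          rw [← Module.End.mul_apply, ← map_mul, ← hab, map_mul, Module.End.mul_apply]
        -- `c • b v = d • v`
        have k3 : c • ρ b v = d • v := by
          rw [← map_smul, ← k1, hcm, k2]
        have k4 : ρ b v = (c ^ 2 * d) • v := by
          have := congrArg (fun w => c ^ 2 • w) k3
          simp only [smul_smul] at this
          rw [← pow_succ, hc, one_smul] at this
          exact this
        refine ⟨?_, k4⟩
        rw [k4, map_smul] at k1
        have := congrArg (fun w => (c * d ^ 2) • w) k1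
        simp only [smul_smul] at this
        rw [show c * d ^ 2 * (c ^ 2 * d) = 1 by
          calc c * d ^ 2 * (c ^ 2 * d) = c ^ 3 * d ^ 3 := by ring
            _ = 1 := by rw [hc, hd, one_mul], one_smul] at this
        rw [this]
        congr 1
        ring
      · rintro ⟨k1, k2⟩
        constructor
        · rw [f1, k2, map_smul, k1, smul_smul]
          congr 1
          calc c ^ 2 * d * (c ^ 2 * d ^ 2) = c * c ^ 3 * d ^ 3 := by ring
            _ = c := by rw [hc, hd, mul_one, mul_one]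
        · rw [f2, k2, map_smul, k2, smul_smul, map_smul, k1, smul_smul]
          congr 1
          calc c ^ 2 * d * (c ^ 2 * d) * (c ^ 2 * d ^ 2) = (c ^ 3) ^ 2 * d ^ 3 * d := by ring
            _ = d := by rw [hc, hd, one_pow, one_mul, one_mul]
    rw [this]
  have p1 : (1 : K) ^ 3 = 1 := one_pow _
  have p2 : (ω ^ 2) ^ 3 = 1 := by rw [← pow_mul, mul_comm, pow_mul, hω3, one_pow]
  have w4 : ω ^ 2 * ω ^ 2 = ω := by linear_combination ω * hω3
  have w3 : ω ^ 2 * ω = 1 := by linear_combination hω3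
  have w3' : ω * ω ^ 2 = 1 := by linear_combination hω3
  have w4' : (ω ^ 2) ^ 2 = ω := by rw [pow_two, w4]
  have m1' : ∀ c d : K, c ^ 3 = 1 → d ^ 3 = 1 → jm ρ a b c d = jm ρ a b (d ^ 2) c := m1
  have m2' : ∀ c d : K, c ^ 3 = 1 → d ^ 3 = 1 → jm ρ a b c d = jm ρ a b (c ^ 2 * d ^ 2) (c ^ 2 * d) := m2
  -- m (i, j) = m (2j, i) = m (2i - j, j - i)
  have a1 := m1' 1 ω p1 hω3
  have a2 := m1' 1 (ω ^ 2) p1 p2
  have a3 := m1' ω 1 hω3 p1
  have a4 := m1' (ω ^ 2) 1 p2 p1
  have a5 := m1' ω ω hω3 hω3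
  have a6 := m1' ω (ω ^ 2) hω3 p2
  have a7 := m1' (ω ^ 2) ω p2 hω3
  have a8 := m1' (ω ^ 2) (ω ^ 2) p2 p2
  have b1 := m2' 1 ω p1 hω3
  have b2 := m2' 1 (ω ^ 2) p1 p2
  have b3 := m2' ω 1 hω3 p1
  have b4 := m2' (ω ^ 2) 1 p2 p1
  simp only [one_pow, one_mul, mul_one, w4', w4, w3, w3'] at a2
  simp only [one_pow, one_mul, mul_one, w4', w4, w3, w3'] at a3
  simp only [one_pow, one_mul, mul_one, w4', w4, w3, w3'] at a4
  simp only [one_pow, one_mul, mul_one, w4', w4, w3, w3'] at a6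
  simp only [one_pow, one_mul, mul_one, w4', w4, w3, w3'] at a8
  simp only [one_pow, one_mul, mul_one, w4', w4, w3, w3'] at b1
  simp only [one_pow, one_mul, mul_one, w4', w4, w3, w3'] at b2
  simp only [one_pow, one_mul, mul_one, w4', w4, w3, w3'] at b3
  simp only [one_pow, one_mul, mul_one, w4', w4, w3, w3'] at b4
  have t : finrank K V = jm ρ a b 1 1 + 8 * jm ρ a b 1 ω := by
    rw [finrank_top, e1, e2, e3] at e0
    change finrank K V = (jm ρ a b 1 1 + jm ρ a b 1 ω + jm ρ a b 1 (ω ^ 2)) +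
      (jm ρ a b ω 1 + jm ρ a b ω ω + jm ρ a b ω (ω ^ 2)) +
      (jm ρ a b (ω ^ 2) 1 + jm ρ a b (ω ^ 2) ω + jm ρ a b (ω ^ 2) (ω ^ 2)) at e0
    clear e1 e2 e3
    omega
  have f : fx ρ a = jm ρ a b 1 1 + 2 * jm ρ a b 1 ω := by
    have h5 : fx ρ a = finrank K (ei (⊤ : Submodule K V) (ρ a) 1) := by
      unfold fx ei
      rw [top_inf_eq, one_smul]
    rw [h5, e1]
    change (jm ρ a b 1 1 + jm ρ a b 1 ω + jm ρ a b 1 (ω ^ 2)) = _
    clear e0 e1 e2 e3
    omega
  have hne : fx ρ a ≠ finrank K V := fun h => ha1 ((fx_eq_iff a).1 h)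
  clear e0 e1 e2 e3
  omega

end nine

section trace

variable {L K V : Type*} [Group L] [Field K] [AddCommGroup V] [Module K V] [FiniteDimensional K V]
  {ρ : L →* Module.End K V}

/-- **The sum of the traces of the powers.** -/
theorem sum_trace {z : L} {r : ℕ} (hr : (r : K) ≠ 0) (hz : z ^ r = 1) :
    ∑ k ∈ Finset.range r, LinearMap.trace K V (ρ (z ^ k)) = r * fx ρ z := by
  set N : Module.End K V := (r : K)⁻¹ • ∑ k ∈ Finset.range r, ρ (z ^ k) with hN
  have hzN : ρ z * N = N := by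
    rw [hN, mul_smul_comm, Finset.mul_sum]
    congr 1
    have h3 : ∀ k, ρ z * ρ (z ^ k) = ρ (z ^ (k + 1)) := fun k => by rw [← map_mul, ← pow_succ']
    rw [Finset.sum_congr rfl (fun k _ => h3 k)]
    have h4 := Finset.sum_range_succ' (fun k => ρ (z ^ k)) r
    have h5 := Finset.sum_range_succ (fun k => ρ (z ^ k)) r
    rw [h4, hz, pow_zero] at h5
    exact add_right_cancel h5
  have hp : LinearMap.IsProj (LinearMap.ker (ρ z - 1)) N := by
    constructor
    · intro v
      rw [mem_ker, ← Module.End.mul_apply, hzN]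
    · intro v hv
      rw [mem_ker] at hv
      have key : ∀ i : ℕ, ρ (z ^ i) v = v := by
        intro i
        induction i with
        | zero => rw [pow_zero, map_one, Module.End.one_apply]
        | succ i ih => rw [pow_succ, map_mul, Module.End.mul_apply, hv, ih]
      rw [hN, LinearMap.smul_apply, LinearMap.sum_apply, Finset.sum_congr rfl (fun k _ => key k), Finset.sum_const,
        Finset.card_range, ← Nat.cast_smul_eq_nsmul K, smul_smul, inv_mul_cancel₀ hr, one_smul]
  have h1 := hp.trace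
  rw [hN, map_smul, map_sum, smul_eq_mul] at h1
  unfold fx
  rw [← h1, ← mul_assoc, mul_inv_cancel₀ hr, one_mul]

end trace

end Cfsg.Agent.H921.M22.Fix
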