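import Cfsg.Agent.H921.M22.Fix
import Cfsg.Agent.H921.M22.Facts2
import Cfsg.Agent.H908.Lift
import Cfsg.Agent.H906.Transf

/-!
# Representations of `M22` and `3.M22` in characteristic two

* `one` : a faithful irreducible representation of `M22` of degree at most 12 has degree 10; elements of order 11 fix
  nothing, elements of order 7 fix a line;
* `three` : for `3.M22` : degree 6, or 12.
-/

set_option autoImplicit false
set_option linter.unusedSectionVars false

namespace Cfsg.Agent.H921.M22.Rp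

open Cfsg Module Fix Facts

section basic

variable {L K V : Type*} [Group L] [Field K] [AddCommGroup V] [Module K V] {ρ : L →* Module.End K V}

theorem fixed_pow {z : L} {v : V} (h : ρ z v = v) {x : L} (hx : x ∈ Subgroup.zpowers z) : ρ x v = v := by
  let S : Subgroup L :=
    { carrier := {x | ρ x v = v}
      one_mem' := by
        change ρ 1 v = v
        rw [map_one, Module.End.one_apply]
      mul_mem' := by
        intro x y (hx : ρ x v = v) (hy : ρ y v = v)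
        change ρ (x * y) v = v
        rw [map_mul, Module.End.mul_apply, hy, hx]
      inv_mem' := by
        intro x (hx : ρ x v = v)
        change ρ x⁻¹ v = v
        conv_lhs => rw [← hx]
        exact rho_inv x v }
  have h1 : Subgroup.zpowers z ≤ S := by
    rw [Subgroup.zpowers_le]
    exact h
  exact h1 hx

theorem fx_zpowers {z z' : L} (h : z' ∈ Subgroup.zpowers z) (h' : z ∈ Subgroup.zpowers z') : fx ρ z = fx ρ z' := by
  unfold fx
  have h1 : LinearMap.ker (ρ z - 1) = LinearMap.ker (ρ z' - 1) := by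
    ext v
    rw [mem_ker, mem_ker]
    exact ⟨fun hv => fixed_pow hv h, fun hv => fixed_pow hv h'⟩
  rw [h1]

/-- subgroups of order `r` are conjugate -/
theorem exists_conj [Finite L] {r : ℕ} (hr : r.Prime) (hT : ¬ r ^ 2 ∣ Nat.card L) {z z' : L} (hz : orderOf z = r)
    (hz' : orderOf z' = r) : ∃ g : L, g * z * g⁻¹ ∈ Subgroup.zpowers z' := by
  have : Fact r.Prime := ⟨hr⟩
  have hf : (Nat.card L).factorization r = 1 := by
    have h1 : r ∣ Nat.card L := by rw [← hz]; exact orderOf_dvd_natCard z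
    have h2 : Nat.card L ≠ 0 := Nat.card_pos.ne'
    have h3 := (hr.dvd_iff_one_le_factorization h2).1 h1
    have h4 : ¬ 2 ≤ (Nat.card L).factorization r := fun h => hT ((hr.pow_dvd_iff_le_factorization h2).2 h)
    omega
  let S : Sylow r L := Sylow.ofCard (Subgroup.zpowers z) (by rw [Nat.card_zpowers, hz, hf, pow_one])
  let S₀ : Sylow r L := Sylow.ofCard (Subgroup.zpowers z') (by rw [Nat.card_zpowers, hz', hf, pow_one])
  obtain ⟨g, hg⟩ := MulAction.exists_smul_eq L S S₀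
  refine ⟨g, ?_⟩
  have h1 : g * z * g⁻¹ ∈ (g • S : Sylow r L) := by
    rw [Sylow.smul_def]
    exact ⟨z, Subgroup.mem_zpowers z, rfl⟩
  rw [hg] at h1
  exact h1

theorem orderOf_conj (g z : L) : orderOf (g * z * g⁻¹) = orderOf z := by
  have := orderOf_injective (MulAut.conj g).toMonoidHom (MulAut.conj g).injective z
  simpa using this

theorem fx_prime [Finite L] {r : ℕ} (hr : r.Prime) (hT : ¬ r ^ 2 ∣ Nat.card L) {z z' : L} (hz : orderOf z = r)
    (hz' : orderOf z' = r) : fx ρ z = fx ρ z' := by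
  obtain ⟨g, hg⟩ := exists_conj hr hT hz hz'
  rw [← fx_conj z g]
  refine (fx_zpowers hg ?_).symm
  have h1 : Subgroup.zpowers (g * z * g⁻¹) ≤ Subgroup.zpowers z' := (Subgroup.zpowers_le).2 hg
  have h2 : Subgroup.zpowers (g * z * g⁻¹) = Subgroup.zpowers z' := by
    apply Subgroup.eq_of_le_of_card_ge h1
    rw [Nat.card_zpowers, Nat.card_zpowers, orderOf_conj, hz, hz']
  rw [h2]
  exact Subgroup.mem_zpowers z'

/-- the trace -/
noncomputable abbrev tc (ρ : L →* Module.End K V) (g : L) : K := LinearMap.trace K V (ρ g)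

theorem tc_conj (g h : L) : tc ρ (h * g * h⁻¹) = tc ρ g := by
  unfold tc
  rw [map_mul, LinearMap.trace_mul_comm, ← map_mul]
  congr 2
  group

theorem tc_isConj {g h : L} (hc : IsConj g h) : tc ρ g = tc ρ h := by
  obtain ⟨c, rfl⟩ := isConj_iff.1 hc
  exact (tc_conj g c).symm

theorem tc_cyc {z u : L} {k : ℕ} (hu : u * z * u⁻¹ = z ^ k) (i : ℕ) : tc ρ (z ^ (k * i)) = tc ρ (z ^ i) := by
  rw [pow_mul, ← hu, conj_pow, tc_conj]

variable [FiniteDimensional K V]

theorem tc_one : tc ρ 1 = (finrank K V : K) := by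
  unfold tc
  rw [map_one, LinearMap.trace_one]

theorem sum_eleven {z u : L} (hr : ((11 : ℕ) : K) ≠ 0) (hz : z ^ 11 = 1) (hu : u * z * u⁻¹ = z ^ 3) :
    (finrank K V : K) + 5 * tc ρ z + 5 * tc ρ (z ^ 2) = 11 * (fx ρ z : K) := by
  have h1 := sum_trace (ρ := ρ) hr hz
  have h := tc_cyc (ρ := ρ) hu
  have m : ∀ {i j : ℕ}, i ≡ j [MOD 11] → tc ρ (z ^ i) = tc ρ (z ^ j) := fun hij => by rw [pow_mod hz hij]
  have a1 : tc ρ (z ^ 3) = tc ρ (z ^ 1) := h 1
  have a2 : tc ρ (z ^ 9) = tc ρ (z ^ 3) := h 3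
  have a3 : tc ρ (z ^ 5) = tc ρ (z ^ 9) := (m (by decide)).trans (h 9)
  have a4 : tc ρ (z ^ 4) = tc ρ (z ^ 5) := (m (by decide)).trans (h 5)
  have b1 : tc ρ (z ^ 6) = tc ρ (z ^ 2) := h 2
  have b2 : tc ρ (z ^ 7) = tc ρ (z ^ 6) := (m (by decide)).trans (h 6)
  have b3 : tc ρ (z ^ 10) = tc ρ (z ^ 7) := (m (by decide)).trans (h 7)
  have b4 : tc ρ (z ^ 8) = tc ρ (z ^ 10) := (m (by decide)).trans (h 10)
  have e0 : tc ρ (z ^ 0) = (finrank K V : K) := by rw [pow_zero, tc_one]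
  have e1 : tc ρ (z ^ 1) = tc ρ z := by rw [pow_one]
  simp only [Finset.sum_range_succ, Finset.sum_range_zero, zero_add] at h1
  unfold tc at *
  push_cast at h1
  rw [e0, b4, b3, b2, b1, a4, a3, a2, a1, e1] at h1
  linear_combination h1

theorem sum_seven {z u : L} (hr : ((7 : ℕ) : K) ≠ 0) (hz : z ^ 7 = 1) (hu : u * z * u⁻¹ = z ^ 2) :
    (finrank K V : K) + 3 * tc ρ z + 3 * tc ρ z⁻¹ = 7 * (fx ρ z : K) := by
  have h1 := sum_trace (ρ := ρ) hr hz
  have h := tc_cyc (ρ := ρ) hu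
  have m : ∀ {i j : ℕ}, i ≡ j [MOD 7] → tc ρ (z ^ i) = tc ρ (z ^ j) := fun hij => by rw [pow_mod hz hij]
  have a1 : tc ρ (z ^ 2) = tc ρ (z ^ 1) := h 1
  have a2 : tc ρ (z ^ 4) = tc ρ (z ^ 2) := h 2
  have b1 : tc ρ (z ^ 5) = tc ρ (z ^ 6) := (m (by decide)).trans (h 6)
  have b2 : tc ρ (z ^ 3) = tc ρ (z ^ 5) := (m (by decide)).trans (h 5)
  have e0 : tc ρ (z ^ 0) = (finrank K V : K) := by rw [pow_zero, tc_one]
  have e1 : tc ρ (z ^ 1) = tc ρ z := by rw [pow_one]
  have e2 : tc ρ (z ^ 6) = tc ρ z⁻¹ := by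
    have : z ^ 6 = z⁻¹ := by rw [eq_inv_iff_mul_eq_one, ← pow_succ, hz]
    rw [this]
  simp only [Finset.sum_range_succ, Finset.sum_range_zero, zero_add] at h1
  unfold tc at *
  push_cast at h1
  rw [e0, b2, b1, a2, a1, e1, e2] at h1
  linear_combination h1

end basic

/-! ### `M22` -/

section one

variable {K V : Type*} [Field K] [IsAlgClosed K] [CharP K 2] [AddCommGroup V] [Module K V] [FiniteDimensional K V]

theorem odd_ne {r : ℕ} (h : r % 2 = 1) : (r : K) ≠ 0 := by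
  intro h0
  rw [CharP.cast_eq_zero_iff K 2] at h0
  omega

theorem exists_omega : ∃ ω : K, ω ^ 2 + ω + 1 = 0 := by
  have h3 : ((3 : ℕ) : K) ≠ 0 := odd_ne (by norm_num)
  have : NeZero ((3 : ℕ) : K) := ⟨h3⟩
  obtain ⟨ω, hω⟩ := IsAlgClosed.exists_root (Polynomial.X ^ 2 + Polynomial.X + 1 : Polynomial K) (by
    have : (Polynomial.X ^ 2 + Polynomial.X + 1 : Polynomial K).degree = 2 := by compute_degree!
    rw [this]; norm_num)
  exact ⟨ω, by simpa [Polynomial.IsRoot] using hω⟩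

variable {ρ : Spor.M22 →* Module.End K V}

/-- **`M22` in dimension at most 12 and characteristic two.** -/
theorem one (D : Dat ρ (MonoidHom.id Spor.M22)) (hinj : Function.Injective ρ) (hn : finrank K V ≤ 12) :
    finrank K V = 10 ∧ (∀ z : Spor.M22, orderOf z = 11 → fx ρ z = 0) ∧ (∀ z : Spor.M22, orderOf z = 7 → fx ρ z = 1) := by
  obtain ⟨ω, hω⟩ := exists_omega (K := K)
  obtain ⟨a, b, q₁, q₂, hN⟩ := nine
  have h3 : (3 : K) ≠ 0 := by
    have := odd_ne (K := K) (r := 3) (by norm_num)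
    exact_mod_cast this
  have nt : ∀ {g : Spor.M22}, g ≠ 1 → ρ g ≠ 1 := fun hg h => hg (hinj (by rw [h, map_one]))
  have no : ∀ {g : Spor.M22} {r : ℕ}, 1 < r → orderOf g = r → g ≠ 1 := by
    rintro g r hr hg rfl
    rw [orderOf_one] at hg
    omega
  obtain ⟨h9, h8⟩ := fx_nine (ρ := ρ) (by rw [← hN.ha, pow_orderOf_eq_one]) (by rw [← hN.hb, pow_orderOf_eq_one]) hN.hab
    hN.h1 hN.h2 hN.h3 hN.h4 hω h3 (by omega) (nt (no (by norm_num) hN.ha))
  have f3 : ∀ x : Spor.M22, orderOf x = 3 → fx ρ x = fx ρ a := fun x hx => fx_isConj (three hx hN.ha)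
  -- order 11
  have f11 : ∀ z : Spor.M22, orderOf z = 11 → ∃ m, finrank K V = fx ρ z + 5 * m ∧ fx ρ z ≠ finrank K V := by
    intro z hz
    obtain ⟨u, hu⟩ := eleven hz
    obtain ⟨m, hm⟩ := fx_norm (ρ := ρ) (by norm_num : Nat.Prime 11) (odd_ne (by norm_num)) (by norm_num : Nat.Prime 5)
      (by rw [← hz, pow_orderOf_eq_one]) hu (by decide) (s := 6) (by decide)
    exact ⟨m, hm, fun h => nt (no (by norm_num) hz) ((fx_eq_iff z).1 h)⟩
  have f7 : ∀ z : Spor.M22, orderOf z = 7 → ∃ m, finrank K V = fx ρ z + 3 * m ∧ fx ρ z ≠ finrank K V := by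
    intro z hz
    obtain ⟨u, hu⟩ := seven hz
    obtain ⟨m, hm⟩ := fx_norm (ρ := ρ) (by norm_num : Nat.Prime 7) (odd_ne (by norm_num)) (by norm_num : Nat.Prime 3)
      (by rw [← hz, pow_orderOf_eq_one]) hu (by decide) (s := 1) (by decide)
    exact ⟨m, hm, fun h => nt (no (by norm_num) hz) ((fx_eq_iff z).1 h)⟩
  obtain ⟨x₁, y₁, e1, e2, e3, e4⟩ := gen_eleven
  obtain ⟨x₂, y₂, e5, e6, e7, e8⟩ := gen_seven
  obtain ⟨x₃, y₃, e9, e10, e11, e12⟩ := gen_zz
  have s1 := D.scott (g := x₁) (h := y₁) e4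
  have s2 := D.scott (g := x₂) (h := y₂) e8
  have s3 := D.scott (g := x₃) (h := y₃) e12
  rw [f3 _ e1, f3 _ e2] at s1
  rw [f3 _ e5, f3 _ e6] at s2
  obtain ⟨m1, k1, l1⟩ := f11 _ e3
  obtain ⟨m2, k2, l2⟩ := f7 _ e7
  obtain ⟨m3, k3, l3⟩ := f11 _ e9
  obtain ⟨m4, k4, l4⟩ := f11 _ e10
  obtain ⟨m5, k5, l5⟩ := f11 _ e11
  have hn10 : finrank K V = 10 := by omega
  refine ⟨hn10, ?_, ?_⟩
  · intro z hz
    rw [fx_prime (by norm_num) (by rw [card_M22]; norm_num) hz e3]
    omega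
  · intro z hz
    rw [fx_prime (by norm_num) (by rw [card_M22]; norm_num) hz e7]
    omega

theorem one_tc (h10 : finrank K V = 10) (h11 : ∀ z : Spor.M22, orderOf z = 11 → fx ρ z = 0) {g : Spor.M22}
    (hg : ¬ 2 ∣ orderOf g) : tc ρ (g ^ 2) = tc ρ g := by
  rcases odd hg with h | h | h | h | h
  · rw [orderOf_eq_one_iff] at h
    rw [h, one_pow]
  · have h1 : orderOf (g ^ 2) = 3 := by
      have : Fact (Nat.Prime 3) := ⟨Nat.prime_three⟩
      apply orderOf_eq_prime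
      · rw [← pow_mul, mul_comm, pow_mul, ← h, pow_orderOf_eq_one, one_pow]
      · intro h1
        have := orderOf_dvd_of_pow_eq_one h1
        rw [h] at this
        omega
    exact tc_isConj (three h1 h)
  · obtain ⟨u, hu⟩ := five h
    have h1 := tc_cyc (ρ := ρ) hu 1
    rwa [mul_one, pow_one] at h1
  · obtain ⟨u, hu⟩ := seven h
    have h1 := tc_cyc (ρ := ρ) hu 1
    rwa [mul_one, pow_one] at h1
  · obtain ⟨u, hu⟩ := eleven h
    have h1 := sum_eleven (ρ := ρ) (odd_ne (by norm_num)) (by rw [← h, pow_orderOf_eq_one]) hu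
    rw [h11 g h, h10] at h1
    have h3 : (2 : K) = 0 := CharTwo.two_eq_zero
    push_cast at h1
    linear_combination h1 - (5 + 3 * tc ρ g + 2 * tc ρ (g ^ 2)) * h3

theorem one_seven (h10 : finrank K V = 10) (h7 : ∀ z : Spor.M22, orderOf z = 7 → fx ρ z = 1) {w : Spor.M22}
    (hw : orderOf w = 7) : tc ρ w⁻¹ ≠ tc ρ w := by
  intro h
  obtain ⟨u, hu⟩ := seven hw
  have h1 := sum_seven (ρ := ρ) (odd_ne (by norm_num)) (by rw [← hw, pow_orderOf_eq_one]) hu
  rw [h7 w hw, h10, h] at h1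
  have h3 : (2 : K) = 0 := CharTwo.two_eq_zero
  push_cast at h1
  have h4 : (1 : K) = 0 := by linear_combination (5 + 3 * tc ρ w - 3) * h3 - h1
  exact one_ne_zero h4

end one

end Cfsg.Agent.H921.M22.Rp
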