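import Cfsg.Agent.H921.M22.Rep

/-!
# Ranks of norm elements of 2-groups in characteristic two; Scott's lemma with eigenvalues

* `norm_rank` : `|A| · rank (Σ_{a ∈ A} ρ a) ≤ dim V` for a 2-group `A`;
* `rank_four` : `u ^ 8 = 1`, `dim V = 12` : `dim C_V(u ^ 4) ≥ 8`;
* `scott_eig` : Scott's lemma for eigenspaces;
* `sum_trace_eig` : sums of traces of powers and eigenspaces; `finrank_le_of_eig`.
-/

set_option autoImplicit false
set_option linter.unusedSectionVars false

namespace Cfsg.Agent.H921.M22.Rp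

open Cfsg Module Facts
open Cfsg.Agent.H921.M22.Fix (Dat fx mem_ker rho_inv rho_inv')

section half

variable {K V : Type*} [Field K] [AddCommGroup V] [Module K V] [FiniteDimensional K V]

/-- dimension of a submodule: kernel and image -/
theorem finrank_sub (f : Module.End K V) (W : Submodule K V) :
    finrank K (W.map f) + finrank K (W ⊓ LinearMap.ker f : Submodule K V) = finrank K W := by
  have h1 := LinearMap.finrank_range_add_finrank_ker (f.domRestrict W)
  have h2 : LinearMap.range (f.domRestrict W) = W.map f := by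
    ext v
    simp only [LinearMap.mem_range, Submodule.mem_map, LinearMap.domRestrict_apply, Subtype.exists, exists_prop]
  have h3 : (LinearMap.ker (f.domRestrict W)).map W.subtype = W ⊓ LinearMap.ker f := by
    ext v
    simp only [Submodule.mem_map, LinearMap.mem_ker, LinearMap.domRestrict_apply, Submodule.subtype_apply,
      Subtype.exists, exists_and_left, exists_prop, Submodule.mem_inf]
    constructor
    · rintro ⟨w, h, hw, rfl⟩
      exact ⟨hw, h⟩
    · rintro ⟨hw, h⟩
      exact ⟨v, h, hw, rfl⟩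
  have h4 : finrank K ((LinearMap.ker (f.domRestrict W)).map W.subtype) = finrank K (LinearMap.ker (f.domRestrict W)) :=
    Submodule.finrank_map_subtype_eq _ _
  rw [h2, ← h4, h3] at h1
  exact h1

variable [CharP K 2]

theorem add_self' (K : Type*) {V : Type*} [Field K] [AddCommGroup V] [Module K V] [CharP K 2] (v : V) :
    v + v = 0 := by
  have h : (2 : K) = 0 := CharTwo.two_eq_zero
  rw [← two_smul K v, h, zero_smul]

theorem half {s N : Module.End K V} (h1 : s * N = N * s) (h2 : s * s * N = N) :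
    2 * finrank K (LinearMap.range ((1 + s) * N)) ≤ finrank K (LinearMap.range N) := by
  have h3 := finrank_sub (1 + s) (LinearMap.range N)
  have h4 : (LinearMap.range N).map (1 + s) = LinearMap.range ((1 + s) * N) := by
    rw [← LinearMap.range_comp]
    rfl
  have h5 : LinearMap.range ((1 + s) * N) ≤ LinearMap.range N ⊓ LinearMap.ker (1 + s) := by
    rintro _ ⟨v, rfl⟩
    refine Submodule.mem_inf.2 ⟨⟨v + s v, ?_⟩, ?_⟩
    · rw [map_add, ← Module.End.mul_apply N s, ← h1]
      rfl
    · rw [LinearMap.mem_ker]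
      have e2 := LinearMap.congr_fun h2 v
      have e3 : ∀ w : V, (1 + s) w = w + s w := fun w => rfl
      have e4 : ((1 + s) * N) v = N v + s (N v) := rfl
      have e5 : s (s (N v)) = N v := e2
      rw [e4, e3, map_add, e5, add_comm (s (N v)), add_self' K]
  have h6 := Submodule.finrank_mono h5
  rw [h4] at h3
  omega

universe w

/-- **The rank of the norm element of a 2-group.** -/
theorem norm_rank (k : ℕ) : ∀ (A : Type w) [Group A] [Fintype A] (ρ : A →* Module.End K V), Nat.card A = 2 ^ k →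
    2 ^ k * finrank K (LinearMap.range (∑ a, ρ a)) ≤ finrank K V := by
  classical
  induction k with
  | zero =>
    intro A _ _ ρ _
    rw [pow_zero, one_mul]
    exact Submodule.finrank_le _
  | succ k ih =>
    intro A _ _ ρ hA
    have : Fact (Nat.Prime 2) := ⟨Nat.prime_two⟩
    obtain ⟨B, hB⟩ := Sylow.exists_subgroup_card_pow_prime 2 (G := A) (n := k) (by rw [hA]; exact ⟨2, pow_succ 2 k⟩)
    have hi : B.index = 2 := by
      have h1 := B.card_mul_index
      rw [hB, hA, pow_succ] at h1
      exact Nat.eq_of_mul_eq_mul_left (by positivity) h1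
    have hnor := Subgroup.normal_of_index_eq_two hi
    obtain ⟨s, hs⟩ : ∃ s, s ∉ B := by
      by_contra hcon
      push Not at hcon
      have : B = ⊤ := (Subgroup.eq_top_iff' B).2 hcon
      rw [this, Subgroup.index_top] at hi
      omega
    have hmem := fun {a b : A} => Subgroup.mul_mem_iff_of_index_two hi (a := a) (b := b)
    set N : Module.End K V := ∑ b : B, ρ b.1 with hN
    have h1 := ih B (ρ.comp B.subtype) hB
    change 2 ^ k * finrank K (LinearMap.range N) ≤ finrank K V at h1
    have h2 : ∑ a, ρ a = (1 + ρ s) * N := by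
      rw [add_mul, one_mul, hN, Finset.mul_sum]
      rw [← Fintype.sum_subtype_add_sum_subtype (fun a => a ∈ B) (fun a => ρ a)]
      congr 1
      symm
      refine Fintype.sum_equiv
        { toFun := fun b => (⟨s * b.1, fun h => hs ((hmem.1 h).2 b.2)⟩ : {a // ¬ a ∈ B})
          invFun := fun a => (⟨s⁻¹ * a.1, hmem.2 (iff_of_false (fun h => hs (inv_mem_iff.1 h)) a.2)⟩ : B)
          left_inv := fun b => Subtype.ext (inv_mul_cancel_left _ _)
          right_inv := fun a => Subtype.ext (mul_inv_cancel_left _ _) } _ _ ?_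
      intro b
      exact (map_mul ρ s b.1).symm
    have h3 : ρ s * N = N * ρ s := by
      rw [hN, Finset.mul_sum, Finset.sum_mul]
      refine Fintype.sum_equiv
        { toFun := fun b => (⟨s * b.1 * s⁻¹, hnor.conj_mem _ b.2 _⟩ : B)
          invFun := fun b => (⟨s⁻¹ * b.1 * s, by
            have := hnor.conj_mem _ b.2 s⁻¹
            rwa [inv_inv] at this⟩ : B)
          left_inv := fun b => Subtype.ext (by
            change s⁻¹ * (s * b.1 * s⁻¹) * s = b.1
            group)
          right_inv := fun b => Subtype.ext (by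
            change s * (s⁻¹ * b.1 * s) * s⁻¹ = b.1
            group) } _ _ ?_
      intro b
      change ρ s * ρ b.1 = ρ (s * b.1 * s⁻¹) * ρ s
      rw [← map_mul, ← map_mul, inv_mul_cancel_right]
    have hs2 : s * s ∈ B := hmem.2 Iff.rfl
    have h4 : ρ s * ρ s * N = N := by
      rw [← map_mul, hN, Finset.mul_sum]
      refine Fintype.sum_equiv
        { toFun := fun b => (⟨s * s * b.1, B.mul_mem hs2 b.2⟩ : B)
          invFun := fun b => (⟨(s * s)⁻¹ * b.1, B.mul_mem (B.inv_mem hs2) b.2⟩ : B)
          left_inv := fun b => Subtype.ext (inv_mul_cancel_left _ _)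
          right_inv := fun b => Subtype.ext (mul_inv_cancel_left _ _) } _ _ ?_
      intro b
      exact (map_mul ρ (s * s) b.1).symm
    have h5 := half h3 h4
    rw [h2, pow_succ]
    calc 2 ^ k * 2 * finrank K (LinearMap.range ((1 + ρ s) * N))
        = 2 ^ k * (2 * finrank K (LinearMap.range ((1 + ρ s) * N))) := by ring
      _ ≤ 2 ^ k * finrank K (LinearMap.range N) := Nat.mul_le_mul_left _ h5
      _ ≤ _ := h1

/-- the norm element vanishes -/
theorem norm_zero {A : Type*} [Group A] [Fintype A] (ρ : A →* Module.End K V) {k : ℕ} (hA : Nat.card A = 2 ^ k)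
    (hV : finrank K V < 2 ^ k) : ∑ a, ρ a = 0 := by
  have h1 := norm_rank k A ρ hA
  have h2 : finrank K (LinearMap.range (∑ a, ρ a)) = 0 := by
    by_contra h
    have : 2 ^ k * 1 ≤ 2 ^ k * finrank K (LinearMap.range (∑ a, ρ a)) := Nat.mul_le_mul_left _ (by omega)
    omega
  rw [Submodule.finrank_eq_zero, LinearMap.range_eq_bot] at h2
  exact h2

end half

section four

variable {L K V : Type*} [Group L] [Field K] [AddCommGroup V] [Module K V] [FiniteDimensional K V] [CharP K 2]
  {ρ : L →* Module.End K V}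

/-- **Squares of squares of elements of order 8.** -/
theorem rank_four {u : L} (hu : u ^ 8 = 1) (hn : finrank K V = 12) : 8 ≤ fx ρ (u ^ 4) := by
  have hch : CharP (Module.End K V) 2 := by
    have : Nontrivial V := by
      rw [← Module.finrank_pos_iff (R := K)]
      omega
    exact charP_of_injective_algebraMap (algebraMap K (Module.End K V)).injective 2
  set N : Module.End K V := ρ u - 1 with hN
  have hN4 : N ^ 4 = ρ (u ^ 4) - 1 := by
    have := sub_pow_char_pow_of_commute (p := 2) (n := 2) (x := ρ u) (y := (1 : Module.End K V)) (Commute.one_right _)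
    rw [map_pow]
    simpa using this
  have hN8 : N ^ 8 = 0 := by
    have := sub_pow_char_pow_of_commute (p := 2) (n := 3) (x := ρ u) (y := (1 : Module.End K V)) (Commute.one_right _)
    have h1 : N ^ 8 = ρ u ^ 8 - 1 := by simpa using this
    rw [h1, ← map_pow, hu, map_one, sub_self]
  set r : ℕ → ℕ := fun i => finrank K (LinearMap.range (N ^ i)) with hr
  set w : ℕ → ℕ := fun i => finrank K (LinearMap.range (N ^ i) ⊓ LinearMap.ker N : Submodule K V) with hw
  have h1 : ∀ i, r (i + 1) + w i = r i := by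
    intro i
    have h2 := finrank_sub N (LinearMap.range (N ^ i))
    have h3 : (LinearMap.range (N ^ i)).map N = LinearMap.range (N ^ (i + 1)) := by
      rw [← LinearMap.range_comp, pow_succ']
      rfl
    rw [h3] at h2
    exact h2
  have h2 : ∀ i, w (i + 1) ≤ w i := by
    intro i
    apply Submodule.finrank_mono
    apply inf_le_inf_right
    rintro _ ⟨v, rfl⟩
    exact ⟨N v, by rw [pow_succ]; rfl⟩
  have h3 : r 0 = 12 := by
    rw [hr]
    change finrank K (LinearMap.range (N ^ 0)) = 12
    rw [pow_zero, Module.End.one_eq_id, LinearMap.range_id, finrank_top, hn]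
  have h4 : r 8 = 0 := by
    rw [hr]
    change finrank K (LinearMap.range (N ^ 8)) = 0
    rw [hN8, LinearMap.range_zero, finrank_bot]
  have h5 : r 4 + fx ρ (u ^ 4) = 12 := by
    rw [hr]
    unfold fx
    change finrank K (LinearMap.range (N ^ 4)) + _ = 12
    rw [hN4, ← hn]
    exact LinearMap.finrank_range_add_finrank_ker _
  have a0 := h1 0
  have a1 := h1 1
  have a2 := h1 2
  have a3 := h1 3
  have a4 := h1 4
  have a5 := h1 5
  have a6 := h1 6
  have a7 := h1 7
  have b0 := h2 0
  have b1 := h2 1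
  have b2 := h2 2
  have b3 := h2 3
  have b4 := h2 4
  have b5 := h2 5
  have b6 := h2 6
  simp only [zero_add] at a0 b0
  norm_num at a1 a2 a3 a4 a5 a6 a7 b1 b2 b3 b4 b5 b6
  omega

end four

section eig

variable {L K V : Type*} [Group L] [Field K] [AddCommGroup V] [Module K V] [FiniteDimensional K V]
  {ρ : L →* Module.End K V}

/-- dimension of an eigenspace -/
noncomputable def eg (ρ : L →* Module.End K V) (g : L) (c : K) : ℕ := finrank K (LinearMap.ker (ρ g - c • 1))

theorem eg_one (g : L) : eg ρ g 1 = fx ρ g := by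
  unfold eg fx
  rw [one_smul]

theorem eg_conj (g h : L) (c : K) : eg ρ (h * g * h⁻¹) c = eg ρ g c := Fix.finrank_conj g h c

theorem mem_eg {g : L} {c : K} {v : V} : v ∈ LinearMap.ker (ρ g - c • 1) ↔ ρ g v = c • v := by
  rw [LinearMap.mem_ker, LinearMap.sub_apply, LinearMap.smul_apply, Module.End.one_apply, sub_eq_zero]

/-- **Scott's lemma for eigenspaces.** -/
theorem scott_eig {g h : L} {c d : K} (hc : c ≠ 0) (hd : d ≠ 0)
    (h1 : ∀ v, ρ g v = c • v → ρ h v = d • v → v = 0)
    (h2 : ∀ S : Submodule K V, (∀ v, ρ g v - c • v ∈ S) → (∀ v, ρ h v - d • v ∈ S) → S = ⊤) :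
    eg ρ g c + eg ρ h d + eg ρ (g * h) (c * d) ≤ finrank K V := by
  set X : Module.End K V := c⁻¹ • ρ g with hX
  set Y : Module.End K V := d⁻¹ • ρ h with hY
  set Z : Module.End K V := (c * d) • ρ (g * h)⁻¹ with hZ
  have hcd : c * d ≠ 0 := mul_ne_zero hc hd
  have hXYZ : X * Y * Z = 1 := by
    rw [hX, hY, hZ, smul_mul_smul_comm, smul_mul_smul_comm, ← map_mul, ← map_mul, mul_inv_cancel, map_one,
      ← mul_inv, inv_mul_cancel₀ hcd, one_smul]
  have hXv : ∀ v, X v = v ↔ ρ g v = c • v := by
    intro v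
    rw [hX, LinearMap.smul_apply]
    constructor
    · intro h
      rw [← h, smul_smul, mul_inv_cancel₀ hc, one_smul, h]
    · intro h
      rw [h, smul_smul, inv_mul_cancel₀ hc, one_smul]
  have hYv : ∀ v, Y v = v ↔ ρ h v = d • v := by
    intro v
    rw [hY, LinearMap.smul_apply]
    constructor
    · intro h
      rw [← h, smul_smul, mul_inv_cancel₀ hd, one_smul, h]
    · intro h
      rw [h, smul_smul, inv_mul_cancel₀ hd, one_smul]
  have hZv : ∀ v, Z v = v ↔ ρ (g * h) v = (c * d) • v := by
    intro v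
    rw [hZ, LinearMap.smul_apply]
    constructor
    · intro h1
      have h2 := congrArg (ρ (g * h)) h1
      rw [map_smul, rho_inv'] at h2
      exact h2.symm
    · intro h1
      rw [← map_smul, ← h1, rho_inv]
  have key := H565.Scott.scott hXYZ (⊥ : Submodule K V) ⊤ (by
    intro v hv1 hv2
    rw [h1 v ((hXv v).1 hv1) ((hYv v).1 hv2)]
    exact Submodule.zero_mem _) (by
    intro S hS1 hS2
    rw [h2 S (by
      intro v
      have h3 := S.smul_mem c (hS1 v)
      rwa [hX, LinearMap.smul_apply, smul_sub, smul_smul, mul_inv_cancel₀ hc, one_smul] at h3) (by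
      intro v
      have h3 := S.smul_mem d (hS2 v)
      rwa [hY, LinearMap.smul_apply, smul_sub, smul_smul, mul_inv_cancel₀ hd, one_smul] at h3)])
  rw [finrank_top, finrank_bot] at key
  have r1 := Fix.finrank_range X
  have r2 := Fix.finrank_range Y
  have r3 := Fix.finrank_range Z
  have e1 : LinearMap.ker (X - 1) = LinearMap.ker (ρ g - c • 1) := by
    ext v
    rw [mem_ker, mem_eg, hXv]
  have e2 : LinearMap.ker (Y - 1) = LinearMap.ker (ρ h - d • 1) := by
    ext v
    rw [mem_ker, mem_eg, hYv]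
  have e3 : LinearMap.ker (Z - 1) = LinearMap.ker (ρ (g * h) - (c * d) • 1) := by
    ext v
    rw [mem_ker, mem_eg, hZv]
  rw [e1] at r1
  rw [e2] at r2
  rw [e3] at r3
  unfold eg
  omega

/-- **Traces of powers and eigenspaces.** -/
theorem sum_trace_eig {z : L} {r : ℕ} (hr : (r : K) ≠ 0) (hz : z ^ r = 1) {c : K} (hc : c ^ r = 1) :
    ∑ k ∈ Finset.range r, c ^ k * tc ρ (z ^ k) = r * eg ρ z c⁻¹ := by
  have hr0 : r ≠ 0 := by
    rintro rfl
    exact hr Nat.cast_zero
  have hc0 : c ≠ 0 := by
    rintro rfl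
    rw [zero_pow hr0] at hc
    exact zero_ne_one hc
  set N : Module.End K V := (r : K)⁻¹ • ∑ k ∈ Finset.range r, c ^ k • ρ (z ^ k) with hN
  have hzN : (c • ρ z) * N = N := by
    rw [hN, mul_smul_comm, Finset.mul_sum]
    congr 1
    have h3 : ∀ k, (c • ρ z) * (c ^ k • ρ (z ^ k)) = c ^ (k + 1) • ρ (z ^ (k + 1)) := fun k => by
      rw [smul_mul_smul_comm, ← map_mul, ← pow_succ', ← pow_succ']
    rw [Finset.sum_congr rfl (fun k _ => h3 k)]
    have h4 := Finset.sum_range_succ' (fun k => c ^ k • ρ (z ^ k)) r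
    have h5 := Finset.sum_range_succ (fun k => c ^ k • ρ (z ^ k)) r
    rw [h4, hz, hc, pow_zero, pow_zero] at h5
    exact add_right_cancel h5
  have hev : ∀ v, v ∈ LinearMap.ker (ρ z - c⁻¹ • 1) ↔ c • ρ z v = v := by
    intro v
    rw [mem_eg]
    constructor
    · intro h
      rw [h, smul_smul, mul_inv_cancel₀ hc0, one_smul]
    · intro h
      conv_rhs => rw [← h]
      rw [smul_smul, inv_mul_cancel₀ hc0, one_smul]
  have hp : LinearMap.IsProj (LinearMap.ker (ρ z - c⁻¹ • 1)) N := by
    constructor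
    · intro v
      rw [hev]
      exact LinearMap.congr_fun hzN v
    · intro v hv
      rw [hev] at hv
      have key : ∀ i : ℕ, c ^ i • ρ (z ^ i) v = v := by
        intro i
        induction i with
        | zero => rw [pow_zero, pow_zero, map_one, Module.End.one_apply, one_smul]
        | succ i ih =>
          rw [pow_succ, pow_succ, map_mul, Module.End.mul_apply, mul_smul, ← map_smul, hv, ih]
      have key' : ∀ i : ℕ, (c ^ i • ρ (z ^ i)) v = v := key
      rw [hN, LinearMap.smul_apply, LinearMap.sum_apply, Finset.sum_congr rfl (fun k _ => key' k), Finset.sum_const,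
        Finset.card_range, ← Nat.cast_smul_eq_nsmul K, smul_smul, inv_mul_cancel₀ hr, one_smul]
  have h1 := hp.trace
  rw [hN, map_smul, map_sum, smul_eq_mul] at h1
  unfold eg
  rw [← h1, ← mul_assoc, mul_inv_cancel₀ hr, one_mul]
  apply Finset.sum_congr rfl
  intro k _
  rw [map_smul, smul_eq_mul]

variable [IsAlgClosed K]

open Cfsg.Agent.H906.Wt in
/-- few eigenvalues -/
theorem finrank_le_of_eig {z : L} {r : ℕ} (hr : (r : K) ≠ 0) (hz : z ^ r = 1) {m : ℕ}
    (h : ∀ c : K, c ^ r = 1 → eg ρ z c ≤ m) : finrank K V ≤ r * m := by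
  classical
  have hr0 : r ≠ 0 := by
    rintro rfl
    exact hr Nat.cast_zero
  have hfo : IsOfFinOrder z := isOfFinOrder_iff_pow_eq_one.2 ⟨r, Nat.pos_of_ne_zero hr0, hz⟩
  have hfin : Finite (Subgroup.zpowers z) := by
    apply Nat.finite_of_card_ne_zero
    rw [Nat.card_zpowers]
    exact (orderOf_pos_iff.2 hfo).ne'
  have hcard : (Nat.card (Subgroup.zpowers z) : K) ≠ 0 := by
    rw [Nat.card_zpowers]
    obtain ⟨k, hk⟩ := orderOf_dvd_of_pow_eq_one hz
    rw [hk, Nat.cast_mul] at hr
    exact left_ne_zero_of_mul hr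
  have hfc := finite_chars (K := K) (Subgroup.zpowers z)
  have : Fintype (Subgroup.zpowers z →* Kˣ) := Fintype.ofFinite _
  have hsum := sum_finrank (ρ := rs ρ (Subgroup.zpowers z)) (by
    intro a b
    obtain ⟨i, hi⟩ := Subgroup.mem_zpowers_iff.1 a.2
    obtain ⟨j, hj⟩ := Subgroup.mem_zpowers_iff.1 b.2
    have hab : a * b = b * a := by
      apply Subtype.ext
      change a.1 * b.1 = b.1 * a.1
      rw [← hi, ← hj, ← zpow_add, ← zpow_add, add_comm]
    rw [← map_mul, ← map_mul, hab]) hcard
  rw [← hsum]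
  have hz1 : z ∈ Subgroup.zpowers z := Subgroup.mem_zpowers z
  have hroot : ∀ χ : Subgroup.zpowers z →* Kˣ, (χ ⟨z, hz1⟩) ^ r = 1 := by
    intro χ
    rw [← map_pow]
    have : (⟨z, hz1⟩ : Subgroup.zpowers z) ^ r = 1 := Subtype.ext hz
    rw [this, map_one]
  have h1 : ∀ χ : Subgroup.zpowers z →* Kˣ, finrank K (W (rs ρ (Subgroup.zpowers z)) χ) ≤ m := by
    intro χ
    refine le_trans (Submodule.finrank_mono ?_) (h (χ ⟨z, hz1⟩ : Kˣ) (by
      rw [← Units.val_pow_eq_pow_val, hroot, Units.val_one]))
    intro v hv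
    rw [mem_eg]
    exact mem_W.1 hv ⟨z, hz1⟩
  refine (Finset.sum_le_card_nsmul _ _ m (fun χ _ => h1 χ)).trans ?_
  rw [smul_eq_mul]
  apply Nat.mul_le_mul_right
  have : NeZero r := ⟨hr0⟩
  rw [Finset.card_univ, ← Nat.card_eq_fintype_card]
  refine le_trans (Nat.card_le_card_of_injective (fun χ : Subgroup.zpowers z →* Kˣ =>
    (⟨χ ⟨z, hz1⟩, (mem_rootsOfUnity _ _).2 (hroot χ)⟩ : rootsOfUnity r K)) ?_) (card_rootsOfUnity K r)
  intro χ ψ hχψ
  have h2 : χ ⟨z, hz1⟩ = ψ ⟨z, hz1⟩ := congrArg Subtype.val hχψ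
  ext a
  obtain ⟨i, hi⟩ := Subgroup.mem_zpowers_iff.1 a.2
  have h3 : a = ⟨z, hz1⟩ ^ i := Subtype.ext hi.symm
  rw [h3, map_zpow, map_zpow, h2]

end eig

end Cfsg.Agent.H921.M22.Rp
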